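import Mathlib

/-!
# Even permutations as products of two conjugate elements

`σ = a * a'` with `a` even, `a'` of the same cycle type, and `a` having enough transpositions and
fixed points to be moved to a second lift of itself by a commuting element.
-/

set_option autoImplicit false
set_option linter.unusedSectionVars false
set_option linter.unusedSimpArgs false

namespace Cfsg.Agent.Small.AltComm

open Equiv Equiv.Perm

variable {α : Type*} [Fintype α] [DecidableEq α]

/-- A factorisation inside the support. -/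
structure Fac (c a a' : Perm α) : Prop where
  eq : c = a * a'
  ct : a.cycleType = a'.cycleType
  sub : a.support ⊆ c.support
  sub' : a'.support ⊆ c.support

/-- Two transpositions in a set. -/
def TwoSwaps (a : Perm α) (S : Finset α) : Prop :=
  ∃ x y s t : α, [x, y, s, t].Nodup ∧ a x = y ∧ a y = x ∧ a s = t ∧ a t = s ∧ x ∈ S ∧ y ∈ S ∧ s ∈ S ∧ t ∈ S

/-- A transposition and two fixed points in a set. -/
def SwapFix (a : Perm α) (S : Finset α) : Prop :=
  ∃ x y u v : α, [x, y, u, v].Nodup ∧ a x = y ∧ a y = x ∧ a u = u ∧ a v = v ∧ x ∈ S ∧ y ∈ S ∧ u ∈ S ∧ v ∈ S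

/-- What is needed of a factorisation. -/
def Good (c : Perm α) : Prop :=
  ∃ a a' : Perm α, Fac c a a' ∧ Perm.sign a = 1 ∧ (TwoSwaps a c.support ∨ SwapFix a c.support)

theorem cycleType_of_invol {a : Perm α} (h : a * a = 1) :
    a.cycleType = Multiset.replicate (a.support.card / 2) 2 ∧ 2 ∣ a.support.card := by
  have h2 : ∀ m ∈ a.cycleType, m = 2 := fun m hm => by
    have h3 : orderOf a ∣ 2 := orderOf_dvd_of_pow_eq_one (by rwa [pow_two])
    exact le_antisymm (Nat.le_of_dvd two_pos ((dvd_of_mem_cycleType hm).trans h3)) (two_le_of_mem_cycleType hm)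
  have e := Multiset.eq_replicate_of_mem h2
  have hs := sum_cycleType a
  rw [e, Multiset.sum_replicate, smul_eq_mul] at hs
  exact ⟨e.trans (congrArg (fun k => Multiset.replicate k 2) (by omega)), ⟨Multiset.card a.cycleType, by omega⟩⟩

theorem ct_invol {a b : Perm α} (ha : a * a = 1) (hb : b * b = 1) (h : a.support.card = b.support.card) :
    a.cycleType = b.cycleType := by
  rw [(cycleType_of_invol ha).1, (cycleType_of_invol hb).1, h]

theorem sign_invol {a : Perm α} (h : a * a = 1) : Perm.sign a = (-1) ^ (a.support.card / 2) := by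
  rw [sign_of_cycleType, (cycleType_of_invol h).1, Multiset.sum_replicate, Multiset.card_replicate, smul_eq_mul,
    pow_add, pow_mul']
  simp

theorem sign_invol_one {a : Perm α} (h : a * a = 1) (h4 : 4 ∣ a.support.card) : Perm.sign a = 1 := by
  obtain ⟨k, hk⟩ := h4
  rw [sign_invol h, hk, show 4 * k / 2 = 2 * k by omega, pow_mul]
  simp

theorem twoSwaps_invol {a : Perm α} (h : a * a = 1) (h4 : 4 ≤ a.support.card) : TwoSwaps a a.support := by
  have hh : ∀ x, a (a x) = x := fun x => by rw [← Perm.mul_apply, h, one_apply]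
  obtain ⟨x, hx⟩ := Finset.card_pos.mp (show 0 < a.support.card by omega)
  obtain ⟨s, hs⟩ : ((a.support.erase x).erase (a x)).Nonempty := by
    rw [← Finset.card_pos]
    have := Finset.pred_card_le_card_erase (s := a.support.erase x) (a := a x)
    have := Finset.card_erase_of_mem hx
    omega
  simp only [Finset.mem_erase] at hs
  obtain ⟨hsax, hsx, hs⟩ := hs
  refine ⟨x, a x, s, a s, ?_, rfl, hh x, rfl, hh s, hx, apply_mem_support.mpr hx, hs, apply_mem_support.mpr hs⟩
  have h1 : x ≠ a x := Ne.symm (mem_support.mp hx)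
  have h2 : s ≠ a s := Ne.symm (mem_support.mp hs)
  have h3 : x ≠ a s := fun e => hsax (by rw [e, hh])
  have h4 : a x ≠ a s := fun e => hsx (a.injective e).symm
  simp [h1, h2, h3, h4, Ne.symm hsx, Ne.symm hsax]

/-- The reflections of a cycle. -/
theorem exists_refl {c : Perm α} (hc : c.IsCycle) {p : α} (hp : p ∈ c.support) :
    ∃ a : Perm α, a * a = 1 ∧ (a * c) * (a * c) = 1 ∧ a p = p ∧ a.support ⊆ c.support ∧
      (a * c).support ⊆ c.support ∧ (c * a).support ⊆ c.support ∧
      (Odd c.support.card → a.support.card + 1 = c.support.card ∧ (a * c).support.card + 1 = c.support.card) ∧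
      (Even c.support.card → a.support.card + 2 = c.support.card ∧ (a * c).support.card = c.support.card ∧
        (c * a).support.card = c.support.card) := by
  classical
  have hpne : c p ≠ p := mem_support.mp hp
  have hord : orderOf c = c.support.card := hc.orderOf
  have wd : ∀ i j : ℤ, (c ^ i) p = (c ^ j) p ↔ c ^ i = c ^ j := fun i j => by
    refine ⟨fun e => ?_, fun e => by rw [e]⟩
    have e1 : (c ^ (i - j)) p = p := by
      rw [sub_eq_neg_add, zpow_add, mul_apply, e, ← mul_apply, ← zpow_add, neg_add_cancel, zpow_zero, one_apply]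
    have h1 : c ^ (i - j) = 1 := Perm.ext fun y => by
      rw [one_apply]
      by_cases hy : c y = y
      · exact zpow_apply_eq_self_of_apply_eq_self hy (i - j)
      · obtain ⟨k, rfl⟩ := hc.exists_zpow_eq hpne hy
        rw [← mul_apply, zpow_mul_comm, mul_apply, e1]
    rwa [zpow_sub, mul_inv_eq_one] at h1
  let f : α → α := fun x => if h : ∃ i : ℤ, (c ^ i) p = x then (c ^ (-h.choose)) p else x
  have hf : ∀ i : ℤ, f ((c ^ i) p) = (c ^ (-i)) p := fun i => by
    have h : ∃ j : ℤ, (c ^ j) p = (c ^ i) p := ⟨i, rfl⟩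
    simp only [f, dif_pos h]
    rw [zpow_neg, zpow_neg, (wd _ _).mp h.choose_spec]
  have hff : Function.Involutive f := fun x => by
    by_cases h : ∃ i : ℤ, (c ^ i) p = x
    · obtain ⟨i, rfl⟩ := h
      rw [hf, hf, neg_neg]
    · simp only [f, dif_neg h]
  let a : Perm α := hff.toPerm f
  have ha : ∀ i : ℤ, a ((c ^ i) p) = (c ^ (-i)) p := hf
  have haa : a * a = 1 := Perm.ext fun x => hff x
  have hout : ∀ x, x ∉ c.support → a x = x := fun x hx => by
    show f x = x
    simp only [f]
    rw [dif_neg]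
    rintro ⟨i, rfl⟩
    exact hx (zpow_apply_mem_support.mpr hp)
  have horb : ∀ x, x ∈ c.support → ∃ i : ℤ, (c ^ i) p = x := fun x hx => hc.exists_zpow_eq hpne (mem_support.mp hx)
  have hac : ∀ i : ℤ, (a * c) ((c ^ i) p) = (c ^ (-i - 1)) p := fun i => by
    rw [mul_apply, ← mul_apply c, ← zpow_one_add, ha]
    congr 2; ring
  have hsq : (a * c) * (a * c) = 1 := Perm.ext fun x => by
    rw [one_apply]
    by_cases hx : x ∈ c.support
    · obtain ⟨i, rfl⟩ := horb x hx
      rw [mul_apply, hac, hac]
      congr 2; ring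
    · simp only [mul_apply, notMem_support.mp hx, hout x hx]
  have hsub : a.support ⊆ c.support := fun x hx => by
    by_contra h; exact mem_support.mp hx (hout x h)
  have hsub' : (a * c).support ⊆ c.support :=
    (support_mul_le a c).trans (sup_le hsub le_rfl)
  have hsub'' : (c * a).support ⊆ c.support :=
    (support_mul_le c a).trans (sup_le le_rfl hsub)
  have hdvd : ∀ i : ℤ, c ^ i = 1 ↔ (c.support.card : ℤ) ∣ i := fun i => by
    rw [← orderOf_dvd_iff_zpow_eq_one, hord]
  have fixa : ∀ i : ℤ, a ((c ^ i) p) = (c ^ i) p ↔ (c.support.card : ℤ) ∣ 2 * i := fun i => by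
    rw [ha, wd, ← hdvd, ← mul_inv_eq_one, ← zpow_neg, ← zpow_add]
    constructor <;> intro e
    · rw [← inv_eq_one, ← zpow_neg]; convert e using 2; ring
    · rw [← inv_eq_one, ← zpow_neg]; convert e using 2; ring
  have fixac : ∀ i : ℤ, (a * c) ((c ^ i) p) = (c ^ i) p ↔ (c.support.card : ℤ) ∣ 2 * i + 1 := fun i => by
    rw [hac, wd, ← hdvd, ← mul_inv_eq_one, ← zpow_neg, ← zpow_add]
    constructor <;> intro e
    · rw [← inv_eq_one, ← zpow_neg]; convert e using 2; ring
    · rw [← inv_eq_one, ← zpow_neg]; convert e using 2; ring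
  have same : ∀ i j : ℤ, (c.support.card : ℤ) ∣ i - j → (c ^ i) p = (c ^ j) p := fun i j h => by
    rw [wd, ← mul_inv_eq_one, ← zpow_neg, ← zpow_add, hdvd]; simpa [sub_eq_add_neg] using h
  refine ⟨a, haa, hsq, by simpa using ha 0, hsub, hsub', hsub'', fun hodd => ?_, fun hev => ?_⟩
  · obtain ⟨m, hm⟩ := hodd
    have hcop : IsCoprime (c.support.card : ℤ) 2 := ⟨1, -(m : ℤ), by rw [hm]; push_cast; ring⟩
    constructor
    · have e : a.support = c.support.erase p := by
        ext x
        rw [Finset.mem_erase]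
        refine ⟨fun hx => ⟨fun e => ?_, hsub hx⟩, fun ⟨hxp, hx⟩ => mem_support.mpr fun e => ?_⟩
        · subst e; exact mem_support.mp hx (by simpa using ha 0)
        · obtain ⟨i, rfl⟩ := horb x hx
          refine hxp ?_
          have := same i 0 (by simpa using hcop.dvd_of_dvd_mul_left ((fixa i).mp e))
          simpa using this
      rw [e, Finset.card_erase_of_mem hp]; omega
    · have hm' : (c.support.card : ℤ) = 2 * m + 1 := by rw [hm]; push_cast; ring
      have e : (a * c).support = c.support.erase ((c ^ (m : ℤ)) p) := by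
        ext x
        rw [Finset.mem_erase]
        refine ⟨fun hx => ⟨fun e => ?_, hsub' hx⟩, fun ⟨hxp, hx⟩ => mem_support.mpr fun e => ?_⟩
        · subst e; exact mem_support.mp hx ((fixac m).mpr (by rw [hm']))
        · obtain ⟨i, rfl⟩ := horb x hx
          refine hxp (same i m (hcop.dvd_of_dvd_mul_left ?_))
          have h1 : (c.support.card : ℤ) ∣ 2 * i + 1 - (2 * m + 1) := dvd_sub ((fixac i).mp e) (by rw [hm'])
          rwa [show 2 * (i - m) = 2 * i + 1 - (2 * m + 1) by ring]
      rw [e, Finset.card_erase_of_mem (zpow_apply_mem_support.mpr hp)]; omega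
  · obtain ⟨m, hm⟩ := hev
    have hm' : (c.support.card : ℤ) = 2 * m := by rw [hm]; push_cast; ring
    have hm1 : 1 ≤ m := by have := hc.two_le_card_support; omega
    have hfull : (a * c).support.card = c.support.card := by
      congr 1
      refine Finset.Subset.antisymm hsub' fun x hx => mem_support.mpr fun e => ?_
      obtain ⟨i, rfl⟩ := horb x hx
      obtain ⟨t, ht⟩ := (fixac i).mp e
      rw [hm', mul_assoc] at ht
      omega
    refine ⟨?_, hfull, ?_⟩
    · have hq : (c ^ (m : ℤ)) p ≠ p := fun e => by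
        have : c ^ (m : ℤ) = c ^ (0 : ℤ) := (wd m 0).mp (by simpa using e)
        rw [zpow_zero, hdvd, hm'] at this
        obtain ⟨t, ht⟩ := this
        rcases le_or_gt t 0 with h | h <;> nlinarith
      have e : a.support = (c.support.erase p).erase ((c ^ (m : ℤ)) p) := by
        ext x
        simp only [Finset.mem_erase]
        refine ⟨fun hx => ⟨fun e => ?_, fun e => ?_, hsub hx⟩, fun ⟨hxq, hxp, hx⟩ => mem_support.mpr fun e => ?_⟩
        · subst e; exact mem_support.mp hx ((fixa m).mpr ⟨1, by rw [hm']; ring⟩)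
        · subst e; exact mem_support.mp hx (by simpa using ha 0)
        · obtain ⟨i, rfl⟩ := horb x hx
          obtain ⟨t, ht⟩ := (fixa i).mp e
          rw [hm'] at ht
          rcases Int.even_or_odd t with ⟨u, hu⟩ | ⟨u, hu⟩
          · refine hxp ?_
            have := same i 0 ⟨u, by rw [hm']; subst hu; linarith⟩
            simpa using this
          · exact hxq (same i m ⟨u, by rw [hm']; subst hu; linarith⟩)
      rw [e, Finset.card_erase_of_mem, Finset.card_erase_of_mem hp]
      · omega
      · exact Finset.mem_erase.mpr ⟨hq, zpow_apply_mem_support.mpr hp⟩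
    · rw [show c * a = a * (a * c) * a⁻¹ by
        rw [inv_eq_of_mul_eq_one_right haa, ← mul_assoc a a, haa, one_mul], card_support_conj, hfull]

theorem fac_sqrt {c : Perm α} (hc : c.IsCycle) (h : Odd c.support.card) :
    ∃ a, Fac c a a ∧ Perm.sign a = 1 := by
  obtain ⟨m, hm⟩ := h
  refine ⟨c ^ (m + 1), ⟨?_, rfl, support_pow_le _ _, support_pow_le _ _⟩, ?_⟩
  · rw [← pow_add, show m + 1 + (m + 1) = orderOf c + 1 by rw [hc.orderOf, hm]; ring, pow_succ, pow_orderOf_eq_one,
      one_mul]
  · rw [map_pow, hc.sign, hm]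
    simp [pow_succ, pow_mul]

theorem Fac.mul {c d a a' b b' : Perm α} (h : Fac c a a') (h' : Fac d b b') (hd : Perm.Disjoint c d) :
    Fac (c * d) (a * b) (a' * b') := by
  have hcd := disjoint_iff_disjoint_support.mp hd
  have dis : ∀ {u v : Perm α}, u.support ⊆ c.support → v.support ⊆ d.support → Perm.Disjoint u v := fun hu hv =>
    disjoint_iff_disjoint_support.mpr (hcd.mono hu hv)
  refine ⟨?_, ?_, ?_, ?_⟩
  · rw [h.eq, h'.eq, mul_assoc a b, ← mul_assoc b a', ← (dis h.sub' h'.sub).commute.eq, mul_assoc a', ← mul_assoc a]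
  · rw [(dis h.sub h'.sub).cycleType_mul, (dis h.sub' h'.sub').cycleType_mul, h.ct, h'.ct]
  · rw [hd.support_mul]; exact (support_mul_le a b).trans (sup_le_sup h.sub h'.sub)
  · rw [hd.support_mul]; exact (support_mul_le a' b').trans (sup_le_sup h.sub' h'.sub')

theorem Good.mul {c d : Perm α} (h : Good c) (h' : ∃ b b', Fac d b b' ∧ Perm.sign b = 1) (hd : Perm.Disjoint c d) :
    Good (c * d) := by
  obtain ⟨a, a', hf, hs, hp⟩ := h
  obtain ⟨b, b', hf', hs'⟩ := h'
  refine ⟨a * b, a' * b', hf.mul hf' hd, by rw [map_mul, hs, hs', one_mul], ?_⟩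
  have fix : ∀ x, x ∈ c.support → b x = x := fun x hx => by
    by_contra hne
    exact Finset.disjoint_left.mp (disjoint_iff_disjoint_support.mp hd) hx (hf'.sub (mem_support.mpr hne))
  have up : ∀ x, x ∈ c.support → x ∈ (c * d).support := fun x hx => by
    rw [hd.support_mul]; exact Finset.mem_union_left _ hx
  rcases hp with ⟨x, y, s, t, hn, e1, e2, e3, e4, m1, m2, m3, m4⟩ | ⟨x, y, s, t, hn, e1, e2, e3, e4, m1, m2, m3, m4⟩
  · exact Or.inl ⟨x, y, s, t, hn, by simp [fix _ m1, e1], by simp [fix _ m2, e2], by simp [fix _ m3, e3],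
      by simp [fix _ m4, e4], up _ m1, up _ m2, up _ m3, up _ m4⟩
  · exact Or.inr ⟨x, y, s, t, hn, by simp [fix _ m1, e1], by simp [fix _ m2, e2], by simp [fix _ m3, e3],
      by simp [fix _ m4, e4], up _ m1, up _ m2, up _ m3, up _ m4⟩

/-- Two factorisations glued at common points. -/
theorem glue {a a' b b' : Perm α} (h1 : Perm.Disjoint a b) (h2 : Perm.Disjoint a' b') (h3 : Perm.Disjoint a' b)
    (e1 : a.cycleType = a'.cycleType) (e2 : b.cycleType = b'.cycleType) :
    (a * a') * (b * b') = (a * b) * (a' * b') ∧ (a * b).cycleType = (a' * b').cycleType := by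
  refine ⟨?_, by rw [h1.cycleType_mul, h2.cycleType_mul, e1, e2]⟩
  rw [mul_assoc a a', ← mul_assoc a' b, h3.commute.eq, mul_assoc b, ← mul_assoc a]

theorem exists_list {c : Perm α} (hc : c.IsCycle) :
    ∃ l : List α, l.Nodup ∧ l.length = c.support.card ∧ c = l.formPerm ∧ l.toFinset = c.support := by
  have hcyc := hc
  obtain ⟨x, hx, -⟩ := hc
  refine ⟨c.toList x, nodup_toList c x, by rw [length_toList, hcyc.cycleOf_eq hx], ?_, ?_⟩
  · rw [formPerm_toList, hcyc.cycleOf_eq hx]
  · ext y
    rw [List.mem_toFinset, mem_toList_iff]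
    exact ⟨fun h => (h.1.mem_support_iff).mp h.2, fun h => ⟨hcyc.sameCycle hx (mem_support.mp h), mem_support.mpr hx⟩⟩

/-- Reflections of a cycle given by a list of odd length. -/
theorem exists_refl_list {p : α} {r : List α} (hn : (p :: r).Nodup) (hr : Even r.length) :
    ∃ a : Perm α, a * a = 1 ∧ (a * (p :: r).formPerm) * (a * (p :: r).formPerm) = 1 ∧
      a.support ⊆ r.toFinset ∧ (a * (p :: r).formPerm).support ⊆ insert p r.toFinset ∧
      a.support.card = r.length ∧ (a * (p :: r).formPerm).support.card = r.length := by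
  rcases r with _ | ⟨q, r⟩
  · exact ⟨1, by simp⟩
  obtain ⟨c, hc⟩ : ∃ c, c = (p :: q :: r).formPerm := ⟨_, rfl⟩
  have hcyc : c.IsCycle := hc ▸ List.isCycle_formPerm hn (by simp)
  have hsupp : c.support = (p :: q :: r).toFinset := hc ▸ List.support_formPerm_of_nodup _ hn (by simp)
  have hcard : c.support.card = (q :: r).length + 1 := by
    rw [hsupp, List.toFinset_card_of_nodup hn, List.length_cons]
  obtain ⟨a, h1, h2, h3, h4, h5, -, h6, -⟩ := exists_refl hcyc (p := p) (by rw [hsupp]; simp)
  obtain ⟨h7, h8⟩ := h6 (by rw [hcard]; exact hr.add_one)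
  rw [← hc]
  refine ⟨a, h1, h2, fun x hx => ?_, h5.trans (by rw [hsupp, List.toFinset_cons]), by omega, by omega⟩
  have := h4 hx
  rw [hsupp, List.toFinset_cons, Finset.mem_insert] at this
  exact this.resolve_left fun e => mem_support.mp hx (by rw [e, h3])

theorem viaEmbedding_swap {m : ℕ} (e : Fin m ↪ α) (i j : Fin m) :
    viaEmbeddingHom e (swap i j) = swap (e i) (e j) := by
  refine Perm.ext fun x => ?_
  rw [viaEmbeddingHom_apply]
  by_cases hx : x ∈ Set.range e
  · obtain ⟨k, rfl⟩ := hx
    rw [viaEmbedding_apply, e.injective.swap_apply]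
  · rw [viaEmbedding_apply_of_notMem _ _ _ hx, swap_apply_of_ne_of_ne] <;> rintro rfl <;> exact hx ⟨_, rfl⟩

/-- An embedding from distinct points. -/
def embList (l : List α) (h : l.Nodup) : Fin l.length ↪ α := ⟨l.get, h.injective_get⟩

theorem support_swaps {l : List (α × α)} {S : Finset α} (h : ∀ q ∈ l, q.1 ∈ S ∧ q.2 ∈ S) :
    (l.map fun q => swap q.1 q.2).prod.support ⊆ S := by
  induction l with
  | nil => simp
  | cons q l ih =>
    rw [List.map_cons, List.prod_cons]
    refine (support_mul_le _ _).trans (sup_le ?_ (ih fun w hw => h w (List.mem_cons_of_mem _ hw)))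
    intro x hx
    obtain ⟨h1, h2⟩ := h q List.mem_cons_self
    rcases eq_or_ne x q.1 with rfl | h3
    · exact h1
    rcases eq_or_ne x q.2 with rfl | h4
    · exact h2
    exact absurd (swap_apply_of_ne_of_ne h3 h4) (mem_support.mp hx)

end Cfsg.Agent.Small.AltComm
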