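import Cfsg.Agent.Lib.Small.AltCoverComm.Blocks

/-!
# Every nontrivial even permutation has a good factorisation
-/

set_option autoImplicit false
set_option linter.unusedSectionVars false
set_option linter.unusedSimpArgs false

namespace Cfsg.Agent.Small.AltComm

open Equiv Equiv.Perm

variable {α : Type*} [Fintype α] [DecidableEq α]

theorem fin6 : swap (0 : Fin 6) 1 * (swap 2 3 * swap 3 4 * swap 4 5) =
    (swap 0 5 * swap 5 2 * swap 2 1) * (swap 0 2 * swap 2 3 * swap 3 4) := by decide

theorem fin6_conj : IsConj (swap (0 : Fin 6) 5 * swap 5 2 * swap 2 1) (swap (0 : Fin 6) 2 * swap 2 3 * swap 3 4) :=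
  isConj_iff.mpr ⟨⟨![0, 4, 3, 1, 5, 2], ![0, 3, 5, 2, 1, 4], by decide, by decide⟩, by decide⟩

theorem fin7 : swap (0 : Fin 7) 1 * swap 1 2 * swap 2 3 * swap 3 4 * swap 4 5 * swap 5 6 =
    (swap 0 3 * (swap 1 5 * swap 5 2) * swap 4 6) * (swap 0 2 * (swap 1 5 * swap 5 4) * swap 3 6) := by decide

theorem fin7_conj : IsConj (swap (0 : Fin 7) 3 * (swap 1 5 * swap 5 2) * swap 4 6)
    (swap (0 : Fin 7) 2 * (swap 1 5 * swap 5 4) * swap 3 6) :=
  isConj_iff.mpr ⟨⟨![0, 1, 4, 2, 3, 5, 6], ![0, 1, 3, 4, 2, 5, 6], by decide, by decide⟩, by decide⟩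

theorem fin7_glue : swap (0 : Fin 7) 1 * swap 1 2 * swap 2 3 * swap 3 4 * swap 4 5 * swap 5 6 =
    (swap 0 1 * swap 1 5 * swap 5 4 * swap 4 6) * (swap 1 2 * swap 2 3 * swap 3 5 * swap 5 4) := by decide

theorem fin7_glue_conj : IsConj (swap (0 : Fin 7) 1 * swap 1 5 * swap 5 4 * swap 4 6)
    (swap (1 : Fin 7) 2 * swap 2 3 * swap 3 5 * swap 5 4) :=
  isConj_iff.mpr ⟨⟨![1, 2, 0, 6, 5, 3, 4], ![2, 0, 1, 5, 6, 4, 3], by decide, by decide⟩, by decide⟩

theorem fin4 : swap (0 : Fin 4) 1 * swap 2 3 = (swap 0 2 * swap 1 3) * (swap 0 3 * swap 1 2) := by decide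

theorem ct_via {m : ℕ} (e : Fin m ↪ α) {a b : Perm (Fin m)} (h : IsConj a b) :
    (viaEmbeddingHom e a).cycleType = (viaEmbeddingHom e b).cycleType :=
  isConj_iff_cycleType_eq.mp (MonoidHom.map_isConj _ h)

theorem disj {u v : Perm α} {S T : Finset α} (hu : u.support ⊆ S) (hv : v.support ⊆ T) (h : Disjoint S T) :
    Perm.Disjoint u v := disjoint_iff_disjoint_support.mpr (h.mono hu hv)

theorem sub_cons {p : α} {r : List α} {b : Perm α} (h : b.support ⊆ insert p r.toFinset) :
    b.support ⊆ (p :: r).toFinset := by rwa [List.toFinset_cons]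

theorem good_seven {l : List α} (hn : l.Nodup) (h7 : 7 ≤ l.length) (h4 : l.length % 4 = 3) : Good l.formPerm := by
  obtain ⟨x0, x1, x2, x3, x4, x5, x6, r, rfl⟩ : ∃ x0 x1 x2 x3 x4 x5 x6 r,
      l = x0 :: x1 :: x2 :: x3 :: x4 :: x5 :: x6 :: r := by
    match l, h7 with
    | x0 :: x1 :: x2 :: x3 :: x4 :: x5 :: x6 :: r, _ => exact ⟨x0, x1, x2, x3, x4, x5, x6, r, rfl⟩
  simp only [List.length_cons] at h7 h4
  have hsupp := List.support_formPerm_of_nodup _ hn (by simp)
  have h7n : [x0, x1, x2, x3, x4, x5, x6].Nodup :=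
    hn.sublist (List.sublist_append_left [x0, x1, x2, x3, x4, x5, x6] r)
  let e := embList _ h7n
  have ev : e 0 = x0 ∧ e 1 = x1 ∧ e 2 = x2 ∧ e 3 = x3 ∧ e 4 = x4 ∧ e 5 = x5 ∧ e 6 = x6 :=
    ⟨rfl, rfl, rfl, rfl, rfl, rfl, rfl⟩
  have form : (x0 :: x1 :: x2 :: x3 :: x4 :: x5 :: x6 :: r).formPerm =
      swap x0 x1 * swap x1 x2 * swap x2 x3 * swap x3 x4 * swap x4 x5 * swap x5 x6 * (x6 :: r).formPerm := by
    simp only [List.formPerm_cons_cons, mul_assoc]
  rcases r with _ | ⟨y, r⟩
  · have eq := congrArg (viaEmbeddingHom e) fin7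
    have ct := ct_via e fin7_conj
    simp only [map_mul, viaEmbedding_swap, ev] at eq ct
    have hsub : ∀ q ∈ [(x0, x3), (x1, x5), (x5, x2), (x4, x6), (x0, x2), (x5, x4), (x3, x6)],
        q.1 ∈ [x0, x1, x2, x3, x4, x5, x6].toFinset ∧ q.2 ∈ [x0, x1, x2, x3, x4, x5, x6].toFinset := by simp
    refine ⟨_, _, ⟨?_, ct, ?_, ?_⟩, ?_, Or.inl ⟨x0, x3, x4, x6, ?_, ?_, ?_, ?_, ?_, ?_⟩⟩
    · rw [form, List.formPerm_singleton, mul_one]; exact eq
    · rw [hsupp]
      have := support_swaps (l := [(x0, x3), (x1, x5), (x5, x2), (x4, x6)]) fun q hq => hsub q (by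
        simp only [List.mem_cons, List.not_mem_nil, or_false] at hq ⊢; tauto)
      simpa [mul_assoc] using this
    · rw [hsupp]
      have := support_swaps (l := [(x0, x2), (x1, x5), (x5, x4), (x3, x6)]) fun q hq => hsub q (by
        simp only [List.mem_cons, List.not_mem_nil, or_false] at hq ⊢; tauto)
      simpa [mul_assoc] using this
    all_goals simp only [List.nodup_cons, List.mem_cons, List.not_mem_nil, or_false, not_or, List.nodup_nil, and_true] at h7n ⊢
    · obtain ⟨⟨a1, a2, a3, a4, a5, a6⟩, ⟨b2, b3, b4, b5, b6⟩, ⟨c3, c4, c5, c6⟩, ⟨d4, d5, d6⟩, ⟨e5, e6⟩, f6, -⟩ := h7n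
      rw [map_mul, map_mul, map_mul, sign_swap a3, sign_swap b5, sign_swap (Ne.symm c5), sign_swap e6]
      decide
    · obtain ⟨⟨a1, a2, a3, a4, a5, a6⟩, ⟨b2, b3, b4, b5, b6⟩, ⟨c3, c4, c5, c6⟩, ⟨d4, d5, d6⟩, ⟨e5, e6⟩, f6, -⟩ := h7n
      simp [*]
    all_goals
      obtain ⟨⟨a1, a2, a3, a4, a5, a6⟩, ⟨b2, b3, b4, b5, b6⟩, ⟨c3, c4, c5, c6⟩, ⟨d4, d5, d6⟩, ⟨e5, e6⟩, f6, -⟩ := h7n
      simp [Perm.mul_apply, swap_apply_def, hsupp, *, Ne.symm a1, Ne.symm a2, Ne.symm a3, Ne.symm a4, Ne.symm a5,
        Ne.symm a6, Ne.symm b2, Ne.symm b3, Ne.symm b4, Ne.symm b5, Ne.symm b6, Ne.symm c3, Ne.symm c4, Ne.symm c5,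
        Ne.symm c6, Ne.symm d4, Ne.symm d5, Ne.symm d6, Ne.symm e5, Ne.symm e6, Ne.symm f6]
  · have eq := congrArg (viaEmbeddingHom e) fin7_glue
    have ct := ct_via e fin7_glue_conj
    simp only [map_mul, viaEmbedding_swap, ev] at eq ct
    have hn' : (x6 :: y :: r).Nodup := hn.sublist (List.sublist_append_right [x0, x1, x2, x3, x4, x5] _)
    obtain ⟨b, hb, hb', hbs, hbs', hbc, hbc'⟩ := exists_refl_list hn' (by simp [Nat.even_iff] at *; omega)
    have hS : ∀ z ∈ y :: r, z ≠ x0 ∧ z ≠ x1 ∧ z ≠ x2 ∧ z ≠ x3 ∧ z ≠ x4 ∧ z ≠ x5 ∧ z ≠ x6 := by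
      intro z hz
      have := List.nodup_append.mp (show ([x0, x1, x2, x3, x4, x5, x6] ++ (y :: r)).Nodup from hn)
      refine ⟨?_, ?_, ?_, ?_, ?_, ?_, ?_⟩ <;> intro e <;> exact this.2.2 _ (by simp) _ hz e.symm
    obtain ⟨A, hA⟩ : ∃ A, A = swap x0 x1 * swap x1 x5 * swap x5 x4 * swap x4 x6 := ⟨_, rfl⟩
    obtain ⟨A', hA'⟩ : ∃ A', A' = swap x1 x2 * swap x2 x3 * swap x3 x5 * swap x5 x4 := ⟨_, rfl⟩
    rw [← hA, ← hA'] at eq ct
    have sA : A.support ⊆ [x0, x1, x5, x4, x6].toFinset := by
      have := support_swaps (l := [(x0, x1), (x1, x5), (x5, x4), (x4, x6)]) (S := [x0, x1, x5, x4, x6].toFinset) (by simp)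
      simpa [hA, mul_assoc] using this
    have sA' : A'.support ⊆ [x1, x2, x3, x5, x4].toFinset := by
      have := support_swaps (l := [(x1, x2), (x2, x3), (x3, x5), (x5, x4)]) (S := [x1, x2, x3, x5, x4].toFinset) (by simp)
      simpa [hA', mul_assoc] using this
    have h7' := h7n
    simp only [List.nodup_cons, List.mem_cons, List.not_mem_nil, or_false, not_or, List.nodup_nil, and_true] at h7'
    obtain ⟨⟨a1, a2, a3, a4, a5, a6⟩, ⟨b2, b3, b4, b5, b6⟩, ⟨c3, c4, c5, c6⟩, ⟨d4, d5, d6⟩, ⟨e5, e6⟩, f6, -⟩ := h7'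
    have d1 : Disjoint [x0, x1, x5, x4, x6].toFinset (y :: r).toFinset := by
      simp only [Finset.disjoint_left, List.mem_toFinset]
      intro z hz hz'
      obtain ⟨h0, h1, h2, h3, h4, h5, h6⟩ := hS z hz'
      simp only [List.mem_cons, List.not_mem_nil, or_false] at hz; tauto
    have d2 : Disjoint [x1, x2, x3, x5, x4].toFinset (x6 :: y :: r).toFinset := by
      simp only [Finset.disjoint_left, List.mem_toFinset]
      intro z hz hz'
      rcases List.mem_cons.mp hz' with rfl | hz'
      · simp only [List.mem_cons, List.not_mem_nil, or_false] at hz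
        rcases hz with h | h | h | h | h
        exacts [b6 h.symm, c6 h.symm, d6 h.symm, f6 h.symm, e6 h.symm]
      obtain ⟨h0, h1, h2, h3, h4, h5, h6⟩ := hS z hz'
      simp only [List.mem_cons, List.not_mem_nil, or_false] at hz; tauto
    have hbs2 : b.support ⊆ (x6 :: y :: r).toFinset := by
      rw [List.toFinset_cons]; exact hbs.trans (Finset.subset_insert _ _)
    have g1 : Perm.Disjoint A b := disj sA hbs d1
    have g2 : Perm.Disjoint A' (b * (x6 :: y :: r).formPerm) := disj sA' (sub_cons hbs') d2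
    obtain ⟨ge, gc⟩ := glue g1 g2 (disj sA' hbs2 d2) ct (ct_invol hb hb' (hbc.trans hbc'.symm))
    rw [← mul_assoc b b, hb, one_mul, ← eq, ← form] at ge
    have lenr : (y :: r).length % 4 = 0 := by simp only [List.length_cons] at *; omega
    have up : ∀ z, z ∈ (y :: r).toFinset → z ∈ (x0 :: x1 :: x2 :: x3 :: x4 :: x5 :: x6 :: y :: r).toFinset := by
      intro z hz; simp only [List.mem_toFinset, List.mem_cons] at hz ⊢; tauto
    refine ⟨A * b, A' * (b * (x6 :: y :: r).formPerm), ⟨ge, gc, ?_, ?_⟩, ?_, Or.inl ?_⟩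
    · rw [hsupp]
      refine (support_mul_le _ _).trans (sup_le (sA.trans fun z hz => ?_) (hbs.trans up))
      simp only [List.mem_toFinset, List.mem_cons, List.not_mem_nil, or_false] at hz ⊢; tauto
    · rw [hsupp]
      refine (support_mul_le _ _).trans (sup_le (sA'.trans fun z hz => ?_) ((sub_cons hbs').trans fun z hz => ?_)) <;>
        simp only [List.mem_toFinset, List.mem_cons, List.not_mem_nil, or_false] at hz ⊢ <;> tauto
    · rw [map_mul, sign_invol_one hb (by rw [hbc]; omega), hA, map_mul, map_mul, map_mul, sign_swap a1, sign_swap b5,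
        sign_swap (Ne.symm e5), sign_swap e6]
      decide
    · have h4b : 4 ≤ b.support.card := by rw [hbc]; simp only [List.length_cons] at *; omega
      obtain ⟨x, u, s, t, hn, e1, e2, e3, e4, m1, m2, m3, m4⟩ := twoSwaps_invol hb h4b
      have fx : ∀ z ∈ b.support, A z = z := fun z hz => (g1 z).resolve_right (mem_support.mp hz)
      refine ⟨x, u, s, t, hn, ?_, ?_, ?_, ?_, ?_, ?_, ?_, ?_⟩
      iterate 4 first
        | (rw [mul_apply, e1, fx _ m2]) | (rw [mul_apply, e2, fx _ m1]) | (rw [mul_apply, e3, fx _ m4])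
        | (rw [mul_apply, e4, fx _ m3])
      all_goals rw [hsupp]
      exacts [up _ (hbs m1), up _ (hbs m2), up _ (hbs m3), up _ (hbs m4)]

/-- Two even cycles. -/
theorem good_pair {c d : Perm α} (hc : c.IsCycle) (hd : d.IsCycle) (hce : Even c.support.card)
    (hde : Even d.support.card) (hdis : Perm.Disjoint c d) : Good (c * d) := by
  wlog hle : c.support.card ≤ d.support.card generalizing c d
  · rw [hdis.commute.eq]
    exact this hd hc hde hce hdis.symm (le_of_not_ge hle)
  obtain ⟨m1, hm1⟩ := hce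
  obtain ⟨m2, hm2⟩ := hde
  have h2c := hc.two_le_card_support
  have hD := disjoint_iff_disjoint_support.mp hdis
  rcases Nat.even_or_odd (m1 + m2) with hev | hodd
  swap
  · obtain ⟨p, hp⟩ := Finset.card_pos.mp (show 0 < c.support.card by omega)
    obtain ⟨q, hq⟩ := Finset.card_pos.mp (show 0 < d.support.card by omega)
    obtain ⟨a, a1, a2, -, a3, a4, a5, -, a6⟩ := exists_refl hc hp
    obtain ⟨b, b1, b2, -, b3, b4, -, -, b6⟩ := exists_refl hd hq
    obtain ⟨c1, c2, c3⟩ := a6 ⟨m1, hm1⟩
    obtain ⟨d1, d2, -⟩ := b6 ⟨m2, hm2⟩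
    have hca : (c * a) * (c * a) = 1 := by
      have e := congrArg (fun g => a * g * a) a2
      simp only [mul_one, a1] at e
      rw [← e]
      simp only [mul_assoc]
      rw [← mul_assoc a a, a1, one_mul]
    have sC : ∀ {u v : Perm α}, u.support ⊆ c.support → v.support ⊆ d.support → Perm.Disjoint u v :=
      fun hu hv => disj hu hv hD
    obtain ⟨ge, gc⟩ : (c * a * a) * (b * (b * d)) = (c * a * b) * (a * (b * d)) ∧ True := ⟨by
      rw [mul_assoc (c * a) a, ← mul_assoc a b, (sC a3 b3).commute.eq, mul_assoc b a, ← mul_assoc (c * a) b], trivial⟩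
    rw [mul_assoc c a a, a1, mul_one, ← mul_assoc b b, b1, one_mul] at ge
    have hC2 : Perm.Disjoint (c * a) b := sC a5 b3
    have hinv : (c * a * b) * (c * a * b) = 1 := by
      rw [hC2.commute.symm.mul_mul_mul_comm, hca, b1, one_mul]
    have hinv' : (a * (b * d)) * (a * (b * d)) = 1 := by
      rw [(sC a3 b4).commute.symm.mul_mul_mul_comm, a1, b2, one_mul]
    have hcard : (c * a * b).support.card = c.support.card + (b.support.card) := by rw [hC2.card_support_mul, c3]
    have hcard' : (a * (b * d)).support.card = a.support.card + d.support.card := by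
      rw [(sC a3 b4).card_support_mul, d2]
    have hsub : (c * a * b).support ⊆ (c * d).support := by
      rw [hdis.support_mul]; exact (support_mul_le _ _).trans (sup_le_sup a5 b3)
    obtain ⟨j, hj⟩ := hodd
    refine ⟨c * a * b, a * (b * d), ⟨ge, ct_invol hinv hinv' (by omega), hsub, ?_⟩,
      sign_invol_one hinv ⟨j, by omega⟩, Or.inl ?_⟩
    · rw [hdis.support_mul]; exact (support_mul_le _ _).trans (sup_le_sup a3 b4)
    · obtain ⟨x, y, s, t, hn, e1, e2, e3, e4, u1, u2, u3, u4⟩ := twoSwaps_invol hinv (by omega)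
      exact ⟨x, y, s, t, hn, e1, e2, e3, e4, hsub u1, hsub u2, hsub u3, hsub u4⟩
  · obtain ⟨lc, nc, lenc, fc, sc⟩ := exists_list hc
    obtain ⟨ld, nd, lend, fd, sd⟩ := exists_list hd
    have hdl : ∀ z ∈ lc, ∀ w ∈ ld, z ≠ w := fun z hz w hw e => by
      rw [← List.mem_toFinset, sc] at hz
      rw [← List.mem_toFinset, sd, ← e] at hw
      exact Finset.disjoint_left.mp hD hz hw
    obtain ⟨x, p, r, rfl⟩ : ∃ x p r, lc = x :: p :: r := by
      match lc, (show 2 ≤ lc.length by omega) with
      | x :: p :: r, _ => exact ⟨x, p, r, rfl⟩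
    by_cases hsmall : d.support.card = 2
    · obtain ⟨q, y, rfl⟩ : ∃ q y, ld = [q, y] := by
        match ld, (show ld.length = 2 by omega) with
        | [q, y], _ => exact ⟨q, y, rfl⟩
      obtain rfl : r = [] := List.eq_nil_of_length_eq_zero (by simp only [List.length_cons] at lenc; omega)
      rw [List.formPerm_pair] at fc fd
      have h1 := hdl x (by simp) q (by simp)
      have h2 := hdl x (by simp) y (by simp)
      have h3 := hdl p (by simp) q (by simp)
      have h4 := hdl p (by simp) y (by simp)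
      have h5 : x ≠ p := by simpa using nc
      have h6 : q ≠ y := by simpa using nd
      have nd' : ∀ {x p q y : α}, x ≠ p → q ≠ y → x ≠ q → x ≠ y → p ≠ q → p ≠ y → Perm.Disjoint (swap x p) (swap q y) := by
        intro x p q y h5 h6 h1 h2 h3 h4
        rw [disjoint_iff_disjoint_support, support_swap h5, support_swap h6]
        simp [h1, h2, h3, h4, Ne.symm h1, Ne.symm h2, Ne.symm h3, Ne.symm h4]
      have hmem : ∀ z, z = x ∨ z = p ∨ z = q ∨ z = y → z ∈ (c * d).support := by
        intro z hz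
        rw [hdis.support_mul, ← sc, ← sd]
        simp only [Finset.mem_union, List.mem_toFinset, List.mem_cons, List.not_mem_nil, or_false]; tauto
      have dA : Perm.Disjoint (swap x q) (swap p y) := nd' h1 h4 h5 h2 (Ne.symm h3) h6
      have dB : Perm.Disjoint (swap x y) (swap p q) := nd' h2 h3 h5 h1 (Ne.symm h4) (Ne.symm h6)
      have hA : (swap x q * swap p y) * (swap x q * swap p y) = 1 := by
        rw [dA.commute.symm.mul_mul_mul_comm, swap_mul_self, swap_mul_self, one_mul]
      have hB : (swap x y * swap p q) * (swap x y * swap p q) = 1 := by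
        rw [dB.commute.symm.mul_mul_mul_comm, swap_mul_self, swap_mul_self, one_mul]
      refine ⟨swap x q * swap p y, swap x y * swap p q, ⟨?_, ct_invol hA hB ?_, ?_, ?_⟩,
        by rw [map_mul, sign_swap h1, sign_swap h4]; decide, Or.inl ⟨x, q, p, y, ?_, ?_, ?_, ?_, ?_, hmem _ (by simp),
          hmem _ (by simp), hmem _ (by simp), hmem _ (by simp)⟩⟩
      · have n4 : [x, p, q, y].Nodup := by simp [h1, h2, h3, h4, h5, h6]
        have ev4 : embList _ n4 0 = x ∧ embList _ n4 1 = p ∧ embList _ n4 2 = q ∧ embList _ n4 3 = y :=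
          ⟨rfl, rfl, rfl, rfl⟩
        have eq := congrArg (viaEmbeddingHom (embList _ n4)) fin4
        simp only [map_mul, viaEmbedding_swap, ev4] at eq
        rw [fc, fd, eq]
      · rw [dA.card_support_mul, dB.card_support_mul, card_support_swap h1, card_support_swap h4,
          card_support_swap h2, card_support_swap h3]
      · have := support_swaps (l := [(x, q), (p, y)]) (S := (c * d).support) (fun w hw => by
          simp only [List.mem_cons, List.not_mem_nil, or_false] at hw
          rcases hw with rfl | rfl <;> exact ⟨hmem _ (by simp), hmem _ (by simp)⟩)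
        simpa using this
      · have := support_swaps (l := [(x, y), (p, q)]) (S := (c * d).support) (fun w hw => by
          simp only [List.mem_cons, List.not_mem_nil, or_false] at hw
          rcases hw with rfl | rfl <;> exact ⟨hmem _ (by simp), hmem _ (by simp)⟩)
        simpa using this
      all_goals simp [swap_apply_def, h1, h2, h3, h4, h5, h6, Ne.symm h1, Ne.symm h2, Ne.symm h3, Ne.symm h4,
        Ne.symm h5, Ne.symm h6]
    · obtain ⟨y1, y2, y3, q, r', rfl⟩ : ∃ y1 y2 y3 q r', ld = y1 :: y2 :: y3 :: q :: r' := by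
        match ld, (show 4 ≤ ld.length by omega) with
        | y1 :: y2 :: y3 :: q :: r', _ => exact ⟨y1, y2, y3, q, r', rfl⟩
      simp only [List.length_cons] at lenc lend
      have n6 : [x, p, y1, y2, y3, q].Nodup := by
        refine List.nodup_append.mpr ⟨nc.sublist (List.sublist_append_left [x, p] r),
          nd.sublist (List.sublist_append_left [y1, y2, y3, q] r'), fun a ha b hb => hdl a ?_ b ?_⟩
        · simp only [List.mem_cons, List.not_mem_nil, or_false] at ha ⊢; tauto
        · simp only [List.mem_cons, List.not_mem_nil, or_false] at hb ⊢; tauto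
      let e := embList _ n6
      have ev : e 0 = x ∧ e 1 = p ∧ e 2 = y1 ∧ e 3 = y2 ∧ e 4 = y3 ∧ e 5 = q := ⟨rfl, rfl, rfl, rfl, rfl, rfl⟩
      have eq := congrArg (viaEmbeddingHom e) fin6
      have ct := ct_via e fin6_conj
      simp only [map_mul, viaEmbedding_swap, ev] at eq ct
      obtain ⟨A, hA⟩ : ∃ A, A = swap x q * swap q y1 * swap y1 p := ⟨_, rfl⟩
      obtain ⟨A', hA'⟩ : ∃ A', A' = swap x y1 * swap y1 y2 * swap y2 y3 := ⟨_, rfl⟩
      rw [← hA, ← hA'] at eq ct
      have npr : (p :: r).Nodup := (List.nodup_cons.mp nc).2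
      have nqr : (q :: r').Nodup := nd.sublist (List.sublist_append_right [y1, y2, y3] _)
      obtain ⟨a, a1, a2, a3, a4, a5, a6⟩ := exists_refl_list npr ⟨m1 - 1, by omega⟩
      obtain ⟨b, b1, b2, b3, b4, b5, b6⟩ := exists_refl_list nqr ⟨m2 - 2, by omega⟩
      have dab : Disjoint (p :: r).toFinset (q :: r').toFinset := by
        simp only [Finset.disjoint_left, List.mem_toFinset]
        intro z hz hz'
        refine hdl z (List.mem_cons_of_mem _ hz) z ?_ rfl
        simp only [List.mem_cons] at hz' ⊢; tauto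
      have sa : a.support ⊆ (p :: r).toFinset := by
        rw [List.toFinset_cons]; exact a3.trans (Finset.subset_insert _ _)
      have sb : b.support ⊆ (q :: r').toFinset := by
        rw [List.toFinset_cons]; exact b3.trans (Finset.subset_insert _ _)
      obtain ⟨fr, hfr⟩ : ∃ f, f = (p :: r).formPerm := ⟨_, rfl⟩
      obtain ⟨fr', hfr'⟩ : ∃ f, f = (q :: r').formPerm := ⟨_, rfl⟩
      rw [← hfr] at a2 a4 a6
      rw [← hfr'] at b2 b4 b6
      have d1 : Perm.Disjoint a b := disj sa sb dab
      have d2 : Perm.Disjoint (a * fr) (b * fr') := disj (sub_cons a4) (sub_cons b4) dab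
      have d3 : Perm.Disjoint (a * fr) b := disj (sub_cons a4) sb dab
      obtain ⟨ge1, gc1⟩ := glue d1 d2 d3 (ct_invol a1 a2 (a5.trans a6.symm)) (ct_invol b1 b2 (b5.trans b6.symm))
      rw [← mul_assoc a a, a1, one_mul, ← mul_assoc b b, b1, one_mul] at ge1
      have hB : (a * b) * (a * b) = 1 := by rw [d1.commute.symm.mul_mul_mul_comm, a1, b1, one_mul]
      have sA : A.support ⊆ [x, q, y1, p].toFinset := by
        have := support_swaps (l := [(x, q), (q, y1), (y1, p)]) (S := [x, q, y1, p].toFinset) (by simp)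
        simpa [hA, mul_assoc] using this
      have sA' : A'.support ⊆ [x, y1, y2, y3].toFinset := by
        have := support_swaps (l := [(x, y1), (y1, y2), (y2, y3)]) (S := [x, y1, y2, y3].toFinset) (by simp)
        simpa [hA', mul_assoc] using this
      have sB : (a * b).support ⊆ r.toFinset ∪ r'.toFinset := (support_mul_le _ _).trans (sup_le_sup a3 b3)
      have sB' : (a * fr * (b * fr')).support ⊆ (p :: r).toFinset ∪ (q :: r').toFinset :=
        (support_mul_le _ _).trans (sup_le_sup (sub_cons a4) (sub_cons b4))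
      have nc' := nc
      have nd' := nd
      simp only [List.nodup_cons, List.mem_cons, not_or] at nc' nd'
      have D1 : Disjoint [x, q, y1, p].toFinset (r.toFinset ∪ r'.toFinset) := by
        simp only [Finset.disjoint_left, List.mem_toFinset, Finset.mem_union, List.mem_cons, List.not_mem_nil, or_false]
        rintro z hz (hz' | hz')
        · rcases hz with rfl | rfl | rfl | rfl
          exacts [nc'.1.2 hz', hdl z (by simp [hz']) z (by simp) rfl, hdl z (by simp [hz']) z (by simp) rfl, nc'.2.1 hz']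
        · rcases hz with rfl | rfl | rfl | rfl
          exacts [hdl z (by simp) z (by simp [hz']) rfl, nd'.2.2.2.1 hz', nd'.1.2.2.2 hz', hdl z (by simp) z (by simp [hz']) rfl]
      have D2 : Disjoint [x, y1, y2, y3].toFinset ((p :: r).toFinset ∪ (q :: r').toFinset) := by
        simp only [Finset.disjoint_left, List.mem_toFinset, Finset.mem_union]
        intro z hz hz'
        simp only [List.mem_cons, List.not_mem_nil, or_false] at hz hz'
        rcases hz' with hz' | hz'
        · rcases hz with rfl | rfl | rfl | rfl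
          · rcases hz' with h | h
            exacts [nc'.1.1 h, nc'.1.2 h]
          all_goals exact hdl z (List.mem_cons_of_mem _ (List.mem_cons.mpr hz')) z (by simp) rfl
        · rcases hz with rfl | rfl | rfl | rfl
          · exact hdl z (by simp) z (by simp [hz']) rfl
          · rcases hz' with h | h
            exacts [nd'.1.2.2.1 h, nd'.1.2.2.2 h]
          · rcases hz' with h | h
            exacts [nd'.2.1.2.1 h, nd'.2.1.2.2 h]
          · rcases hz' with h | h
            exacts [nd'.2.2.1.1 h, nd'.2.2.1.2 h]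
      have g1 : Perm.Disjoint A (a * b) := disj sA sB D1
      have hab' : (a * b).support ⊆ (p :: r).toFinset ∪ (q :: r').toFinset := (support_mul_le _ _).trans (sup_le_sup sa sb)
      obtain ⟨ge, gc⟩ := glue g1 (disj sA' sB' D2) (disj sA' hab' D2) ct gc1
      rw [← ge1, ← eq] at ge
      have hcd : swap x p * (swap y1 y2 * swap y2 y3 * swap y3 q) * (fr * fr') = c * d := by
        rw [fc, fd, List.formPerm_cons_cons, List.formPerm_cons_cons, List.formPerm_cons_cons, List.formPerm_cons_cons,
          ← hfr, ← hfr']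
        have hcm : Perm.Disjoint (swap y1 y2 * swap y2 y3 * swap y3 q) fr := by
          have s1 := support_swaps (l := [(y1, y2), (y2, y3), (y3, q)]) (S := [y1, y2, y3, q].toFinset) (by simp)
          refine disj (T := (p :: r).toFinset) (by simpa [mul_assoc] using s1)
            (hfr ▸ List.support_formPerm_le _) ?_
          simp only [Finset.disjoint_left, List.mem_toFinset]
          intro z hz hz'
          refine hdl z (List.mem_cons_of_mem _ hz') z ?_ rfl
          simp only [List.mem_cons, List.not_mem_nil, or_false, Finset.mem_insert, Finset.mem_singleton, List.toFinset_cons, List.toFinset_nil, insert_empty_eq] at hz ⊢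
          rcases hz with h | h | h | h <;> simp [h]
        have h := hcm.commute.eq
        simp only [mul_assoc] at h ⊢
        rw [reassoc_comm h]
      rw [hcd] at ge
      have hcs : ∀ z, z ∈ [x, p, y1, y2, y3, q] ∨ z ∈ r ∨ z ∈ r' → z ∈ (c * d).support := by
        intro z hz
        rw [hdis.support_mul, ← sc, ← sd]
        simp only [Finset.mem_union, List.mem_toFinset, List.mem_cons, List.not_mem_nil, or_false] at hz ⊢; tauto
      obtain ⟨j, hj⟩ := hev
      have hcard : (a * b).support.card = r.length + r'.length := by rw [d1.card_support_mul, a5, b5]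
      refine ⟨A * (a * b), A' * (a * fr * (b * fr')), ⟨ge, gc, ?_, ?_⟩, ?_, Or.inr ?_⟩
      · refine (support_mul_le _ _).trans (sup_le (sA.trans fun z hz => hcs z ?_) (sB.trans fun z hz => hcs z ?_)) <;>
          simp only [Finset.mem_union, List.mem_toFinset, List.mem_cons, List.not_mem_nil, or_false] at hz ⊢ <;> tauto
      · refine (support_mul_le _ _).trans (sup_le (sA'.trans fun z hz => hcs z ?_) (sB'.trans fun z hz => hcs z ?_)) <;>
          simp only [Finset.mem_union, List.mem_toFinset, List.mem_cons, List.not_mem_nil, or_false] at hz ⊢ <;> tauto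
      · simp only [List.nodup_cons, List.mem_cons, List.not_mem_nil, or_false, not_or, List.nodup_nil, and_true] at n6
        rw [map_mul, hA, map_mul, map_mul, sign_swap n6.1.2.2.2.2, sign_swap (Ne.symm n6.2.2.1.2.2),
          sign_swap (Ne.symm n6.2.1.1), sign_invol hB, hcard,
          show (r.length + r'.length) / 2 = 2 * (j - 2) + 1 by omega, pow_succ, pow_mul]
        simp
      · obtain ⟨u, hu⟩ := Finset.card_pos.mp (show 0 < (a * b).support.card by omega)
        have hh : ∀ z, (a * b) ((a * b) z) = z := fun z => by rw [← Perm.mul_apply, hB, one_apply]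
        have fx : ∀ z ∈ (a * b).support, A z = z := fun z hz => (g1 z).resolve_right (mem_support.mp hz)
        have m2 := apply_mem_support.mpr hu
        have nB : ∀ z ∈ [y2, y3], z ∉ [x, q, y1, p] ∧ z ∉ r ∧ z ∉ r' := by
          intro z hz
          simp only [List.nodup_cons, List.mem_cons, List.not_mem_nil, or_false, not_or, List.nodup_nil, and_true] at n6
          simp only [List.mem_cons, List.not_mem_nil, or_false] at hz
          rcases hz with rfl | rfl
          · refine ⟨?_, fun h => hdl z (by simp [h]) z (by simp) rfl, fun h => nd'.2.1.2.2 h⟩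
            simp [Ne.symm n6.1.2.2.1, n6.2.2.2.1.2, Ne.symm n6.2.2.1.1, Ne.symm n6.2.1.2.1]
          · refine ⟨?_, fun h => hdl z (by simp [h]) z (by simp) rfl, fun h => nd'.2.2.1.2 h⟩
            simp [Ne.symm n6.1.2.2.2.1, n6.2.2.2.2, Ne.symm n6.2.2.1.2.1, Ne.symm n6.2.1.2.2.1]
        have fy : ∀ z ∈ [y2, y3], (A * (a * b)) z = z ∧ z ∉ (a * b).support := by
          intro z hz
          obtain ⟨h1, h2, h3⟩ := nB z hz
          have hns : z ∉ (a * b).support := fun h => by
            have := sB h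
            simp only [Finset.mem_union, List.mem_toFinset] at this; tauto
          refine ⟨?_, hns⟩
          rw [mul_apply, notMem_support.mp hns]
          exact notMem_support.mp fun h => h1 (List.mem_toFinset.mp (sA h))
        refine ⟨u, (a * b) u, y2, y3, ?_, by rw [mul_apply, fx _ m2],
          by rw [mul_apply, hh, fx _ hu], (fy y2 (by simp)).1, (fy y3 (by simp)).1, ?_, ?_, hcs _ (by simp), hcs _ (by simp)⟩
        · have h1 := (fy y2 (by simp)).2
          have h2 := (fy y3 (by simp)).2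
          have k1 : u ≠ y2 := fun e => h1 (e ▸ hu)
          have k2 : u ≠ y3 := fun e => h2 (e ▸ hu)
          have k3 : (a * b) u ≠ y2 := fun e => h1 (e ▸ m2)
          have k4 : (a * b) u ≠ y3 := fun e => h2 (e ▸ m2)
          have k5 : u ≠ (a * b) u := Ne.symm (mem_support.mp hu)
          have k6 : y2 ≠ y3 := nd'.2.1.1
          simp only [List.nodup_cons, List.mem_cons, List.not_mem_nil, or_false, not_or, List.nodup_nil, and_true]
          exact ⟨⟨k5, k1, k2⟩, ⟨k3, k4⟩, k6, not_false⟩
        all_goals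
          apply hcs
          right
          first
            | (have := sB hu; simpa only [Finset.mem_union, List.mem_toFinset] using this)
            | (have := sB m2; simpa only [Finset.mem_union, List.mem_toFinset] using this)
where
  reassoc_comm {s1 s2 s3 f g : Perm α} (h : s1 * (s2 * (s3 * f)) = f * (s1 * (s2 * s3))) :
      s1 * (s2 * (s3 * (f * g))) = f * (s1 * (s2 * (s3 * g))) := by
    have := congrArg (· * g) h
    simpa only [mul_assoc] using this

theorem split_cycle {σ c : Perm α} (hc : c ∈ σ.cycleFactorsFinset) :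
    σ = c * (σ * c⁻¹) ∧ Perm.Disjoint c (σ * c⁻¹) ∧ (σ * c⁻¹).support.card < σ.support.card := by
  have h := disjoint_mul_inv_of_mem_cycleFactorsFinset hc
  have hcyc := (mem_cycleFactorsFinset_iff.mp hc).1
  have e : σ = c * (σ * c⁻¹) := by rw [h.symm.commute.eq, inv_mul_cancel_right]
  refine ⟨e, h.symm, ?_⟩
  conv_rhs => rw [e, h.symm.card_support_mul]
  have := hcyc.two_le_card_support
  omega

theorem odd_cycles_even {σ : Perm α} (hall : ∀ d ∈ σ.cycleFactorsFinset, ¬ Even d.support.card) :
    Perm.sign σ = 1 := by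
  have : ∀ m ∈ σ.cycleType, Odd m := fun m hm => by
    rw [cycleType_def, Multiset.mem_map] at hm
    obtain ⟨d, hd, rfl⟩ := hm
    exact Nat.not_even_iff_odd.mp (hall d hd)
  rw [sign_of_cycleType]
  generalize σ.cycleType = M at this
  induction M using Multiset.induction with
  | empty => simp
  | cons a M ih =>
    rw [Multiset.sum_cons, Multiset.card_cons, show a + M.sum + (Multiset.card M + 1) = (a + 1) + (M.sum + Multiset.card M) by ring,
      pow_add, ih fun m hm => this m (Multiset.mem_cons_of_mem hm), mul_one,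
      Even.neg_one_pow ((this a (Multiset.mem_cons_self a M)).add_one)]

/-- Every even permutation has a factorisation with even first factor. -/
theorem exists_fac (σ : Perm α) (hs : Perm.sign σ = 1) : ∃ a a', Fac σ a a' ∧ Perm.sign a = 1 := by
  induction hn : σ.support.card using Nat.strong_induction_on generalizing σ with
  | _ n ih =>
    by_cases h1 : σ = 1
    · subst h1; exact ⟨1, 1, ⟨(mul_one 1).symm, rfl, le_rfl, le_rfl⟩, map_one _⟩
    obtain ⟨c, hc⟩ : σ.cycleFactorsFinset.Nonempty :=
      Finset.nonempty_iff_ne_empty.mpr fun e => h1 (cycleFactorsFinset_eq_empty_iff.mp e)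
    obtain ⟨e, hd, hlt⟩ := split_cycle hc
    have hcyc := (mem_cycleFactorsFinset_iff.mp hc).1
    rcases Nat.even_or_odd c.support.card with hev | hodd
    · have ht : Perm.sign (σ * c⁻¹) = -1 := by
        rw [map_mul, map_inv, hs, hcyc.sign, hev.neg_one_pow]; decide
      obtain ⟨d, hdm, hde⟩ : ∃ d ∈ (σ * c⁻¹).cycleFactorsFinset, Even d.support.card := by
        by_contra! hne
        exact absurd (ht.symm.trans (odd_cycles_even hne)) (by decide)
      obtain ⟨e2, hd2, hlt2⟩ := split_cycle hdm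
      have hdcyc := (mem_cycleFactorsFinset_iff.mp hdm).1
      obtain ⟨a, a', hf, hsa, -⟩ := good_pair hcyc hdcyc hev hde (hd.mono le_rfl (by
        rw [e2, hd2.support_mul]; exact Finset.subset_union_left))
      obtain ⟨b, b', hf', hsb⟩ := ih _ (by omega) (σ * c⁻¹ * d⁻¹) (by
        rw [map_mul, map_inv, ht, hdcyc.sign, hde.neg_one_pow]; decide) rfl
      refine ⟨a * b, a' * b', ?_, by rw [map_mul, hsa, hsb, one_mul]⟩
      have := hf.mul hf' ((Perm.Disjoint.mul_left (hd.mono le_rfl (by
        rw [e2, hd2.support_mul, ← e2]; exact Finset.subset_union_right)) hd2))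
      rwa [mul_assoc, ← e2, ← e] at this
    · obtain ⟨a, hf, hsa⟩ := fac_sqrt hcyc hodd
      obtain ⟨b, b', hf', hsb⟩ := ih _ (by omega) (σ * c⁻¹) (by
        rw [map_mul, map_inv, hs, hcyc.sign, hodd.neg_one_pow]; decide) rfl
      refine ⟨a * b, a * b', ?_, by rw [map_mul, hsa, hsb, one_mul]⟩
      have := hf.mul hf' hd
      rwa [← e] at this

/-- The good factorisations. -/
theorem exists_good (σ : Perm α) (hs : Perm.sign σ = 1) (h1 : σ ≠ 1) (hn : 5 ≤ Fintype.card α) :
    ∃ a a' : Perm α, σ = a * a' ∧ a.cycleType = a'.cycleType ∧ Perm.sign a = 1 ∧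
      (TwoSwaps a Finset.univ ∨ SwapFix a Finset.univ) := by
  have fin : ∀ {g : Perm α}, Good g → g = σ → ∃ a a' : Perm α, σ = a * a' ∧ a.cycleType = a'.cycleType ∧
      Perm.sign a = 1 ∧ (TwoSwaps a Finset.univ ∨ SwapFix a Finset.univ) := by
    rintro g ⟨a, a', hf, hsa, hp⟩ rfl
    refine ⟨a, a', hf.eq, hf.ct, hsa, ?_⟩
    rcases hp with ⟨x, y, s, t, r⟩ | ⟨x, y, s, t, r⟩
    · exact Or.inl ⟨x, y, s, t, r.1, r.2.1, r.2.2.1, r.2.2.2.1, r.2.2.2.2.1, by simp, by simp, by simp, by simp⟩
    · exact Or.inr ⟨x, y, s, t, r.1, r.2.1, r.2.2.1, r.2.2.2.1, r.2.2.2.2.1, by simp, by simp, by simp, by simp⟩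
  -- a good pair of cycles and the rest
  have pair : ∀ c ∈ σ.cycleFactorsFinset, ∀ d ∈ (σ * c⁻¹).cycleFactorsFinset, Good (c * d) →
      Perm.sign (c * d) = 1 → ∃ a a' : Perm α, σ = a * a' ∧ a.cycleType = a'.cycleType ∧
      Perm.sign a = 1 ∧ (TwoSwaps a Finset.univ ∨ SwapFix a Finset.univ) := by
    intro c hc d hdm hg hsg
    obtain ⟨e, hd, -⟩ := split_cycle hc
    obtain ⟨e2, hd2, -⟩ := split_cycle hdm
    have hrest : Perm.sign (σ * c⁻¹ * d⁻¹) = 1 := by
      have := congrArg Perm.sign (show σ = (c * d) * (σ * c⁻¹ * d⁻¹) by rw [mul_assoc, ← e2, ← e])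
      rw [hs, map_mul, hsg, one_mul] at this
      exact this.symm
    have hdd : Perm.Disjoint (c * d) (σ * c⁻¹ * d⁻¹) := Perm.Disjoint.mul_left (hd.mono le_rfl (by
      rw [e2, hd2.support_mul, ← e2]; exact Finset.subset_union_right)) hd2
    exact fin (hg.mul (exists_fac _ hrest) hdd) (by rw [mul_assoc, ← e2, ← e])
  by_cases hev : ∃ c ∈ σ.cycleFactorsFinset, Even c.support.card
  · obtain ⟨c, hc, hce⟩ := hev
    obtain ⟨e, hd, -⟩ := split_cycle hc
    have hcyc := (mem_cycleFactorsFinset_iff.mp hc).1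
    obtain ⟨d, hdm, hde⟩ : ∃ d ∈ (σ * c⁻¹).cycleFactorsFinset, Even d.support.card := by
      by_contra! hne
      have := odd_cycles_even hne
      rw [map_mul, map_inv, hs, hcyc.sign, hce.neg_one_pow] at this
      exact absurd this (by decide)
    obtain ⟨e2, hd2, -⟩ := split_cycle hdm
    have hdcyc := (mem_cycleFactorsFinset_iff.mp hdm).1
    refine pair c hc d hdm (good_pair hcyc hdcyc hce hde (hd.mono le_rfl (by
      rw [e2, hd2.support_mul]; exact Finset.subset_union_left))) ?_
    rw [map_mul, hcyc.sign, hdcyc.sign, hce.neg_one_pow, hde.neg_one_pow]; decide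
  push Not at hev
  have single : ∀ c ∈ σ.cycleFactorsFinset, Good c → ∃ a a' : Perm α, σ = a * a' ∧ a.cycleType = a'.cycleType ∧
      Perm.sign a = 1 ∧ (TwoSwaps a Finset.univ ∨ SwapFix a Finset.univ) := by
    intro c hc hg
    obtain ⟨e, hd, -⟩ := split_cycle hc
    have hcyc := (mem_cycleFactorsFinset_iff.mp hc).1
    have hrest : Perm.sign (σ * c⁻¹) = 1 := by
      rw [map_mul, map_inv, hs, hcyc.sign, (Nat.not_even_iff_odd.mp (hev c hc)).neg_one_pow]; decide
    exact fin (hg.mul (exists_fac _ hrest) hd) e.symm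
  obtain ⟨c, hc⟩ : σ.cycleFactorsFinset.Nonempty :=
    Finset.nonempty_iff_ne_empty.mpr fun e => h1 (cycleFactorsFinset_eq_empty_iff.mp e)
  have hcyc := (mem_cycleFactorsFinset_iff.mp hc).1
  obtain ⟨p, hp⟩ := Finset.card_pos.mp (show 0 < c.support.card from lt_of_lt_of_le two_pos hcyc.two_le_card_support)
  obtain ⟨a, a1, a2, a3, a4, a5, -, a6, -⟩ := exists_refl hcyc hp
  obtain ⟨c1, c2⟩ := a6 (Nat.not_even_iff_odd.mp (hev c hc))
  have h2c := hcyc.two_le_card_support
  have hco := Nat.not_even_iff_odd.mp (hev c hc)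
  obtain ⟨m, hm⟩ := hco
  by_cases h14 : c.support.card % 4 = 1
  · refine single c hc ⟨a, a * c, ⟨by rw [← mul_assoc, a1, one_mul], ct_invol a1 a2 (by omega), a4, a5⟩,
      sign_invol_one a1 (by omega), Or.inl ?_⟩
    obtain ⟨x, y, s, t, hn', e1, e2, e3, e4, u1, u2, u3, u4⟩ := twoSwaps_invol a1 (by omega)
    exact ⟨x, y, s, t, hn', e1, e2, e3, e4, a4 u1, a4 u2, a4 u3, a4 u4⟩
  by_cases h7 : 7 ≤ c.support.card
  · obtain ⟨l, hl, hlen, hform, -⟩ := exists_list hcyc
    exact single c hc (hform ▸ good_seven hl (by omega) (by omega))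
  have hc3 : c.support.card = 3 := by omega
  obtain ⟨e, hd, -⟩ := split_cycle hc
  by_cases hrest : σ * c⁻¹ = 1
  · have hsig : σ = c := by rw [e, hrest, mul_one]
    obtain ⟨u, hu, v, hv, huv⟩ := Finset.one_lt_card.mp (show 1 < c.supportᶜ.card by
      rw [Finset.card_compl, hc3]; omega)
    rw [Finset.mem_compl] at hu hv
    have hdu : ∀ {g : Perm α}, g.support ⊆ c.support → Perm.Disjoint g (swap u v) := fun hg => by
      rw [disjoint_iff_disjoint_support, support_swap huv, Finset.disjoint_left]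
      intro z hz hz'
      rw [Finset.mem_insert, Finset.mem_singleton] at hz'
      rcases hz' with rfl | rfl
      · exact hu (hg hz)
      · exact hv (hg hz)
    have i1 : (a * swap u v) * (a * swap u v) = 1 := by
      rw [(hdu a4).commute.symm.mul_mul_mul_comm, a1, swap_mul_self, one_mul]
    have i2 : (a * c * swap u v) * (a * c * swap u v) = 1 := by
      rw [(hdu a5).commute.symm.mul_mul_mul_comm, a2, swap_mul_self, one_mul]
    have k1 : (a * swap u v).support.card = 4 := by rw [(hdu a4).card_support_mul, card_support_swap huv]; omega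
    have k2 : (a * c * swap u v).support.card = 4 := by rw [(hdu a5).card_support_mul, card_support_swap huv]; omega
    refine ⟨a * swap u v, a * c * swap u v, ?_, ct_invol i1 i2 (k1.trans k2.symm), sign_invol_one i1 (by omega), Or.inl ?_⟩
    · rw [hsig, mul_assoc a (swap u v), ← mul_assoc (swap u v), ← (hdu a5).commute.eq, mul_assoc (a * c),
        swap_mul_self, mul_one, ← mul_assoc, a1, one_mul]
    · obtain ⟨x, y, s, t, hn', e1, e2, e3, e4, -⟩ := twoSwaps_invol i1 (by omega)
      exact ⟨x, y, s, t, hn', e1, e2, e3, e4, by simp, by simp, by simp, by simp⟩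
  · obtain ⟨d, hdm⟩ : (σ * c⁻¹).cycleFactorsFinset.Nonempty :=
      Finset.nonempty_iff_ne_empty.mpr fun e => hrest (cycleFactorsFinset_eq_empty_iff.mp e)
    obtain ⟨e2, hd2, -⟩ := split_cycle hdm
    have hdcyc := (mem_cycleFactorsFinset_iff.mp hdm).1
    have hdσ : d ∈ σ.cycleFactorsFinset := by
      rw [e, hd.cycleFactorsFinset_mul_eq_union]; exact Finset.mem_union_right _ hdm
    have hdodd := Nat.not_even_iff_odd.mp (hev d hdσ)
    obtain ⟨q, hq⟩ := Finset.card_pos.mp (show 0 < d.support.card from lt_of_lt_of_le two_pos hdcyc.two_le_card_support)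
    obtain ⟨b, b1, b2, b3, b4, b5, -, b6, -⟩ := exists_refl hdcyc hq
    obtain ⟨d1, d2⟩ := b6 hdodd
    have h2d := hdcyc.two_le_card_support
    obtain ⟨m', hm'⟩ := hdodd
    by_cases hd14 : d.support.card % 4 = 1
    · refine single d hdσ ⟨b, b * d, ⟨by rw [← mul_assoc, b1, one_mul], ct_invol b1 b2 (by omega), b4, b5⟩,
        sign_invol_one b1 (by omega), Or.inl ?_⟩
      obtain ⟨x, y, s, t, hn', e1, e2', e3, e4, u1, u2, u3, u4⟩ := twoSwaps_invol b1 (by omega)
      exact ⟨x, y, s, t, hn', e1, e2', e3, e4, b4 u1, b4 u2, b4 u3, b4 u4⟩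
    have hcd : Perm.Disjoint c d := hd.mono le_rfl (by rw [e2, hd2.support_mul]; exact Finset.subset_union_left)
    have hD := disjoint_iff_disjoint_support.mp hcd
    have da : Perm.Disjoint a b := disj a4 b4 hD
    have da' : Perm.Disjoint (a * c) (b * d) := disj a5 b5 hD
    obtain ⟨ge, gc⟩ := glue da da' (disj a5 b4 hD) (ct_invol a1 a2 (by omega)) (ct_invol b1 b2 (by omega))
    rw [← mul_assoc a a, a1, one_mul, ← mul_assoc b b, b1, one_mul] at ge
    have i1 : (a * b) * (a * b) = 1 := by rw [da.commute.symm.mul_mul_mul_comm, a1, b1, one_mul]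
    have k1 : (a * b).support.card = a.support.card + b.support.card := da.card_support_mul
    have hsub : (a * b).support ⊆ (c * d).support := by
      rw [hcd.support_mul]; exact (support_mul_le _ _).trans (sup_le_sup a4 b4)
    refine pair c hc d hdm ⟨a * b, a * c * (b * d), ⟨ge, gc, hsub, ?_⟩, sign_invol_one i1 (by omega), Or.inl ?_⟩ ?_
    · rw [hcd.support_mul]; exact (support_mul_le _ _).trans (sup_le_sup a5 b5)
    · obtain ⟨x, y, s, t, hn', e1, e2', e3, e4, u1, u2, u3, u4⟩ := twoSwaps_invol i1 (by omega)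
      exact ⟨x, y, s, t, hn', e1, e2', e3, e4, hsub u1, hsub u2, hsub u3, hsub u4⟩
    · rw [map_mul, hcyc.sign, hdcyc.sign, hm, hm']
      simp [pow_succ, pow_mul]

end Cfsg.Agent.Small.AltComm
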