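import Cfsg.Agent.S3335

/-!
# The double cover of an alternating group

A perfect central extension of `A_n` by a group of order two: double transpositions lift to elements
of order four, and so commuting lifts can be told apart.
-/

set_option autoImplicit false
set_option linter.unusedSectionVars false

namespace Cfsg.Agent.Small.AltComm

open Equiv Equiv.Perm
open scoped commutatorElement

/-- The generators of the presentation generate the alternating group. -/
theorem mem_closure_gen {n : ℕ} (hn : 3 ≤ n) {x : Perm (Fin n)} (hx : Perm.sign x = 1) :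
    x ∈ Subgroup.closure (Set.range fun i : Fin (n - 2) => Cfsg.Agent.S3335.gen n i) := by
  obtain ⟨m, rfl⟩ : ∃ m, n = m + 1 := ⟨n - 1, by omega⟩
  set H := Subgroup.closure (Set.range fun i : Fin (m + 1 - 2) => Cfsg.Agent.S3335.gen (m + 1) i)
  let sw := Cfsg.Agent.S3335.sw (m + 1)
  have key : ∀ g : Perm (Fin (m + 1)), g ∈ H ∨ sw 0 * g ∈ H := by
    intro g
    have hg : g ∈ Submonoid.closure (Set.range fun i : Fin m => Equiv.swap i.castSucc i.succ) :=
      (Equiv.Perm.mclosure_swap_castSucc_succ m) ▸ Submonoid.mem_top g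
    induction hg using Submonoid.closure_induction_left with
    | one => exact Or.inl (one_mem _)
    | mul_left a ha b hb ih =>
      obtain ⟨j, rfl⟩ := ha
      have ej : Equiv.swap j.castSucc j.succ = sw j := by
        show _ = Cfsg.Agent.S3335.sw (m + 1) j
        rw [Cfsg.Agent.S3335.sw, dif_pos (by omega)]; rfl
      show Equiv.swap j.castSucc j.succ * b ∈ H ∨ sw 0 * (Equiv.swap j.castSucc j.succ * b) ∈ H
      rw [ej]
      have s0 : sw 0 * sw 0 = 1 := Cfsg.Agent.S3335.sw_sq 0
      rcases Nat.eq_zero_or_pos j.val with hj | hj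
      · rw [hj]
        rcases ih with h | h
        · exact Or.inr (by rwa [← mul_assoc, s0, one_mul])
        · exact Or.inl h
      · have hgen : sw 0 * sw j ∈ H := Subgroup.subset_closure ⟨⟨j.val - 1, by omega⟩, by
          show sw 0 * sw (j.val - 1 + 1) = _
          rw [Nat.sub_add_cancel hj]⟩
        rcases ih with h | h
        · exact Or.inr (by rw [← mul_assoc]; exact mul_mem hgen h)
        · refine Or.inl ?_
          have hinv := inv_mem hgen
          rw [_root_.mul_inv_rev, inv_eq_of_mul_eq_one_right s0,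
            inv_eq_of_mul_eq_one_right (Cfsg.Agent.S3335.sw_sq (n := m + 1) j)] at hinv
          have := mul_mem hinv h
          rwa [mul_assoc, ← mul_assoc (sw 0), s0, one_mul] at this
  refine (key x).resolve_right fun h => ?_
  have hev : ∀ y ∈ H, Perm.sign y = 1 := fun y hy => by
    refine Subgroup.closure_induction (p := fun y _ => Perm.sign y = 1) ?_ ?_ ?_ ?_ hy
    · rintro _ ⟨i, rfl⟩
      simp only [Cfsg.Agent.S3335.gen, map_mul]
      rw [Cfsg.Agent.S3335.sign_sw (by omega), Cfsg.Agent.S3335.sign_sw (by omega)]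
      decide
    · exact map_one _
    · intro a b _ _ ha hb; rw [map_mul, ha, hb, one_mul]
    · intro a _ ha; rw [map_inv, ha, inv_one]
  have := hev _ h
  rw [map_mul, hx, mul_one, show sw 0 = Cfsg.Agent.S3335.sw (m + 1) 0 from rfl,
    Cfsg.Agent.S3335.sign_sw (by omega)] at this
  exact absurd this (by decide)

/-- A double cover of `A_n`. -/
structure IsCover {G : Type*} [Group G] {n : ℕ} (π : G →* Perm (Fin n)) (z : G) : Prop where
  big : 5 ≤ n
  perfect : commutator G = ⊤
  surj : ∀ x : Perm (Fin n), Perm.sign x = 1 → ∃ A, π A = x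
  ne_one : z ≠ 1
  sq : z * z = 1
  central : ∀ g, z * g = g * z
  ker : ∀ A, π A = 1 ↔ A = 1 ∨ A = z

variable {G : Type*} [Group G] [Finite G] {n : ℕ} {π : G →* Perm (Fin n)} {z : G}

theorem IsCover.fibre (h : IsCover π z) {A B : G} (e : π A = π B) : B = A ∨ B = A * z := by
  rcases (h.ker (A⁻¹ * B)).mp (by rw [map_mul, map_inv, e, inv_mul_cancel]) with e' | e'
  · exact Or.inl (inv_mul_eq_one.mp e').symm
  · exact Or.inr (by rw [← e', mul_inv_cancel_left])

theorem IsCover.inv_z (h : IsCover π z) : z⁻¹ = z := inv_eq_of_mul_eq_one_right h.sq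

theorem IsCover.sq_mul_z (h : IsCover π z) (A : G) : (A * z) * (A * z) = A * A := by
  rw [mul_assoc, ← mul_assoc z, h.central, mul_assoc A z z, h.sq, mul_one]

/-- Four distinct points give two commuting transpositions. -/
theorem double_commute {x y s t : Fin n} (hd : [x, y, s, t].Nodup) : Commute (swap x y) (swap s t) := by
  simp only [List.nodup_cons, List.mem_cons, List.not_mem_nil, or_false, not_or, List.nodup_nil, and_true] at hd
  refine Equiv.Perm.Disjoint.commute ?_
  rw [Equiv.Perm.disjoint_iff_disjoint_support, support_swap hd.1.1, support_swap hd.2.2.1]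
  simp [hd.1.2.1, hd.1.2.2, hd.2.1.1, hd.2.1.2, Ne.symm hd.1.2.1, Ne.symm hd.1.2.2, Ne.symm hd.2.1.1,
    Ne.symm hd.2.1.2]

theorem IsCover.isConj_double (h : IsCover π z) {x y s t x' y' s' t' : Fin n} (hd : [x, y, s, t].Nodup)
    (hd' : [x', y', s', t'].Nodup) :
    ∃ C : G, π C * (swap x y * swap s t) * (π C)⁻¹ = swap x' y' * swap s' t' := by
  have hn := h.big
  have hcm := double_commute hd
  simp only [List.nodup_cons, List.mem_cons, List.not_mem_nil, or_false, not_or, List.nodup_nil, and_true] at hd hd'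
  have hc : IsConj (swap x y * swap s t) (swap x' y' * swap s' t') := by
    rw [Equiv.Perm.isConj_iff_cycleType_eq]
    have e : ∀ {x y s t : Fin n}, x ≠ y → x ≠ s → x ≠ t → y ≠ s → y ≠ t → s ≠ t →
        (swap x y * swap s t).cycleType = {2, 2} := by
      intro x y s t h1 h2 h3 h4 h5 h6
      have hdj : Perm.Disjoint (swap x y) (swap s t) := by
        rw [Equiv.Perm.disjoint_iff_disjoint_support, support_swap h1, support_swap h6]
        simp [h2, h3, h4, h5, Ne.symm h2, Ne.symm h3, Ne.symm h4, Ne.symm h5]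
      rw [hdj.cycleType_mul, IsCycle.cycleType (isCycle_swap h1), IsCycle.cycleType (isCycle_swap h6),
        card_support_swap h1, card_support_swap h6]
      rfl
    rw [e hd.1.1 hd.1.2.1 hd.1.2.2 hd.2.1.1 hd.2.1.2 hd.2.2.1,
      e hd'.1.1 hd'.1.2.1 hd'.1.2.2 hd'.2.1.1 hd'.2.1.2 hd'.2.2.1]
  obtain ⟨c, hc⟩ := isConj_iff.mp hc
  rcases Int.units_eq_one_or (Perm.sign c) with hs | hs
  · obtain ⟨C, hC⟩ := h.surj c hs
    exact ⟨C, by rw [hC, hc]⟩
  · obtain ⟨C, hC⟩ := h.surj (c * swap x y) (by rw [map_mul, hs, sign_swap hd.1.1]; decide)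
    refine ⟨C, ?_⟩
    rw [hC, ← hc, _root_.mul_inv_rev, swap_inv]
    have e : swap x y * (swap x y * swap s t) * swap x y = swap x y * swap s t := by
      rw [← mul_assoc, swap_mul_self, one_mul, hcm.eq]
    conv_rhs => rw [← e]
    simp only [mul_assoc]

/-- Double transpositions lift to elements of order four. -/
theorem IsCover.sq_double (h : IsCover π z) {x y s t : Fin n} (hd : [x, y, s, t].Nodup) {D : G}
    (hD : π D = swap x y * swap s t) : D * D = z := by
  classical
  have hn := h.big
  have hker : π (D * D) = 1 := by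
    rw [map_mul, hD, (double_commute hd).symm.mul_mul_mul_comm, swap_mul_self, swap_mul_self, one_mul]
  refine ((h.ker _).mp hker).resolve_left fun hDD => ?_
  -- all lifts of double transpositions are involutions
  have hall : ∀ {x' y' s' t' : Fin n}, [x', y', s', t'].Nodup → ∀ A, π A = swap x' y' * swap s' t' → A * A = 1 := by
    intro x' y' s' t' hd' A hA
    obtain ⟨C, hC⟩ := h.isConj_double hd hd'
    have e : π (C * D * C⁻¹) = π A := by rw [map_mul, map_mul, map_inv, hD, hC, hA]
    have hsq : (C * D * C⁻¹) * (C * D * C⁻¹) = 1 := by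
      rw [show (C * D * C⁻¹) * (C * D * C⁻¹) = C * (D * D) * C⁻¹ by group, hDD, mul_one, mul_inv_cancel]
    rcases h.fibre e with e' | e' <;> rw [e']
    · exact hsq
    · rw [h.sq_mul_z, hsq]
  let gen := Cfsg.Agent.S3335.gen n
  let sw := Cfsg.Agent.S3335.sw n
  have hswv : ∀ k, (hk : k + 1 < n) → sw k = swap ⟨k, by omega⟩ ⟨k + 1, hk⟩ := fun k hk => dif_pos hk
  have hlift : ∀ k, k < n - 2 → ∃ A, π A = gen k := fun k hk => h.surj _ (by
    simp only [gen, Cfsg.Agent.S3335.gen, map_mul]
    rw [Cfsg.Agent.S3335.sign_sw (by omega), Cfsg.Agent.S3335.sign_sw (by omega)]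
    decide)
  choose A hA using hlift
  -- a lift of the three-cycle of order three
  obtain ⟨X0, hX0, hX0'⟩ : ∃ X, π X = gen 0 ∧ X ^ 3 = 1 := by
    have e : π (A 0 (by omega) ^ 3) = 1 := by
      rw [map_pow, hA]; exact Cfsg.Agent.S3335.sw_three (by omega)
    rcases (h.ker _).mp e with e | e
    · exact ⟨_, hA 0 _, e⟩
    · refine ⟨A 0 (by omega) * z, by rw [map_mul, hA, (h.ker z).mpr (Or.inr rfl), mul_one], ?_⟩
      rw [Commute.mul_pow (h.central _).symm, e, pow_succ, pow_two, h.sq, one_mul, h.sq]
  have hz1 : π z = 1 := (h.ker z).mpr (Or.inr rfl)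
  have hgsw : ∀ i, gen i = sw 0 * sw (i + 1) := fun i => rfl
  have h3 : ∀ i, i + 1 < n - 2 → (gen i * gen (i + 1)) ^ 3 = 1 := by
    intro i hi
    have hc := (Cfsg.Agent.S3335.sw_comm (n := n) (i := 0) (j := i + 1 + 1) (by omega)).eq
    rcases Nat.eq_zero_or_pos i with rfl | hi0
    · rw [hgsw, hgsw, show sw 0 * sw (0 + 1) * (sw 0 * sw (0 + 1 + 1)) =
        sw 0 * (sw (0 + 1) * sw (0 + 1 + 1)) * (sw 0)⁻¹ by
          rw [inv_eq_of_mul_eq_one_right (Cfsg.Agent.S3335.sw_sq (n := n) 0)]
          simp only [sw, mul_assoc, hc],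
        conj_pow, Cfsg.Agent.S3335.sw_three (by omega), mul_one, mul_inv_cancel]
    · rw [hgsw, hgsw, show sw 0 * sw (i + 1) * (sw 0 * sw (i + 1 + 1)) = sw (i + 1) * sw (i + 1 + 1) by
        simp only [sw]
        rw [(Cfsg.Agent.S3335.sw_comm (n := n) (i := 0) (j := i + 1) (by omega)).eq]
        simp only [mul_assoc]; rw [← mul_assoc (Cfsg.Agent.S3335.sw n 0), Cfsg.Agent.S3335.sw_sq, one_mul]]
      exact Cfsg.Agent.S3335.sw_three (by omega)
  -- compatible lifts of the other generators
  let X : ℕ → G := fun k => Nat.rec (motive := fun _ => G) X0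
    (fun i Xi => if hi : i + 1 < n - 2 then (if (Xi * A (i + 1) hi) ^ 3 = 1 then A (i + 1) hi else A (i + 1) hi * z)
      else 1) k
  have hXs : ∀ i, (hi : i + 1 < n - 2) → X (i + 1) = if (X i * A (i + 1) hi) ^ 3 = 1 then A (i + 1) hi else A (i + 1) hi * z :=
    fun i hi => dif_pos hi
  have hXπ : ∀ i, i < n - 2 → π (X i) = gen i := by
    intro i hi
    rcases i with _ | i
    · exact hX0
    · rw [hXs i hi]
      split_ifs
      · exact hA _ _
      · rw [map_mul, hA, hz1, mul_one]
  have hX3 : ∀ i, i + 1 < n - 2 → (X i * X (i + 1)) ^ 3 = 1 := by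
    intro i hi
    rw [hXs i hi]
    split_ifs with e
    · exact e
    · have e1 : π ((X i * A (i + 1) hi) ^ 3) = 1 := by
        rw [map_pow, map_mul, hXπ i (by omega), hA, h3 i hi]
      rw [← mul_assoc, Commute.mul_pow (h.central _).symm, ((h.ker _).mp e1).resolve_left e, pow_succ z 2,
        pow_two, h.sq, one_mul, h.sq]
  have hsat : Cfsg.Agent.S3335.Sat (n := n) fun i => X i := by
    refine ⟨fun i hi => ?_, fun i hi => ?_, fun i j hij => ?_, fun i j hij => ?_⟩
    · simp only [hi]; exact hX0'
    · rw [pow_two]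
      have hi2 := i.2
      refine hall (x' := ⟨0, by omega⟩) (y' := ⟨1, by omega⟩) (s' := ⟨i + 1, by omega⟩) (t' := ⟨i + 1 + 1, by omega⟩)
        ?_ (X i) ?_
      · simp [Fin.ext_iff]; omega
      · rw [hXπ i hi2, hgsw, hswv 0 (by omega), hswv (i + 1) (by omega)]
    · simp only [hij]; exact hX3 i (by have := j.2; omega)
    · rw [pow_two]
      have hi2 := i.2
      have hj2 := j.2
      have hj := (Cfsg.Agent.S3335.sw_comm (n := n) (i := 0) (j := j + 1) (by omega)).eq
      have hπ : π (X i * X j) = sw 0 * sw (i + 1) * (sw 0 * sw (j + 1)) := by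
        rw [map_mul, hXπ i hi2, hXπ j hj2]; rfl
      rcases Nat.eq_zero_or_pos (i : ℕ) with h0 | h0
      · refine hall (x' := ⟨0, by omega⟩) (y' := ⟨2, by omega⟩) (s' := ⟨j + 1, by omega⟩) (t' := ⟨j + 1 + 1, by omega⟩)
          ?_ _ ?_
        · simp [Fin.ext_iff]; omega
        · rw [hπ, h0, ← mul_assoc, show sw 0 * sw (0 + 1) * sw 0 = swap (⟨0, by omega⟩ : Fin n) ⟨2, by omega⟩ by
            rw [hswv 0 (by omega), hswv 1 (by omega)]
            have e := Equiv.swap_apply_apply (swap (⟨0, by omega⟩ : Fin n) ⟨0 + 1, by omega⟩)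
              ⟨1, by omega⟩ ⟨1 + 1, by omega⟩
            rw [swap_inv] at e
            rw [← e, Equiv.swap_apply_right, Equiv.swap_apply_of_ne_of_ne] <;> simp [Fin.ext_iff], hswv (j + 1) (by omega)]
      · refine hall (x' := ⟨i + 1, by omega⟩) (y' := ⟨i + 1 + 1, by omega⟩) (s' := ⟨j + 1, by omega⟩)
          (t' := ⟨j + 1 + 1, by omega⟩) ?_ _ ?_
        · simp [Fin.ext_iff]; omega
        · rw [hπ, show sw 0 * sw (↑i + 1) * (sw 0 * sw (↑j + 1)) = sw (i + 1) * sw (j + 1) by
            simp only [sw]
            rw [(Cfsg.Agent.S3335.sw_comm (n := n) (i := 0) (j := i + 1) (by omega)).eq]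
            simp only [mul_assoc]; rw [← mul_assoc (Cfsg.Agent.S3335.sw n 0), Cfsg.Agent.S3335.sw_sq, one_mul],
            hswv (i + 1) (by omega), hswv (j + 1) (by omega)]
  let ψ : PresentedGroup (Cfsg.Agent.S3335.rels n) →* G := PresentedGroup.toGroup hsat.lift
  obtain ⟨e⟩ := Cfsg.Agent.S3335.result n (by omega)
  haveI : Finite (PresentedGroup (Cfsg.Agent.S3335.rels n)) := Finite.of_equiv _ e.symm.toEquiv
  have hA_le : Nat.card ↥ψ.range ≤ Nat.card (alternatingGroup (Fin n)) :=
    (Nat.card_le_card_of_surjective _ ψ.rangeRestrict_surjective).trans (Nat.card_congr e.toEquiv).le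
  have hmap : ∀ x : Perm (Fin n), Perm.sign x = 1 → x ∈ ψ.range.map π := by
    intro x hx
    refine (Subgroup.closure_le _).mpr ?_ (mem_closure_gen (by omega) hx)
    rintro _ ⟨i, rfl⟩
    exact ⟨ψ (PresentedGroup.of i), ⟨_, rfl⟩, by
      show π (ψ (PresentedGroup.of i)) = _
      rw [PresentedGroup.toGroup.of]; exact hXπ i i.2⟩
  have hπev : ∀ g : G, Perm.sign (π g) = 1 := fun g => by
    have : commutator G ≤ (Perm.sign.comp π).ker := Abelianization.commutator_subset_ker _
    exact this (h.perfect ▸ Subgroup.mem_top g)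
  have hcov : ∀ g : G, g ∈ ψ.range ∨ g * z ∈ ψ.range := fun g => by
    obtain ⟨r, hr, e⟩ := hmap _ (hπev g)
    rcases h.fibre e with rfl | rfl
    · exact Or.inl hr
    · exact Or.inr (by rwa [mul_assoc, h.sq, mul_one])
  have htop : ψ.range = ⊤ := by
    rw [eq_top_iff, ← h.perfect, commutator_def, Subgroup.commutator_le]
    intro a _ b _
    have hcomm : ∀ a b : G, ⁅a * z, b⁆ = ⁅a, b⁆ ∧ ⁅a, b * z⁆ = ⁅a, b⁆ := fun a b => by
      constructor
      · rw [commutatorElement_def, _root_.mul_inv_rev, h.inv_z, mul_assoc a z b, h.central b, commutatorElement_def]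
        simp only [mul_assoc]; rw [← mul_assoc z z, h.sq, one_mul]
      · rw [commutatorElement_def, _root_.mul_inv_rev, h.inv_z, mul_assoc a (b * z), mul_assoc b z, h.central a⁻¹,
          commutatorElement_def]
        simp only [mul_assoc]; rw [← mul_assoc z z, h.sq, one_mul]
    rcases hcov a with ha | ha <;> rcases hcov b with hb | hb
    · exact mul_mem (mul_mem (mul_mem ha hb) (inv_mem ha)) (inv_mem hb)
    · rw [← (hcomm a b).2]; exact mul_mem (mul_mem (mul_mem ha hb) (inv_mem ha)) (inv_mem hb)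
    · rw [← (hcomm a b).1]; exact mul_mem (mul_mem (mul_mem ha hb) (inv_mem ha)) (inv_mem hb)
    · rw [← (hcomm a b).1, ← (hcomm (a * z) b).2]
      exact mul_mem (mul_mem (mul_mem ha hb) (inv_mem ha)) (inv_mem hb)
  have hsur : Function.Surjective (π.codRestrict (alternatingGroup (Fin n)) fun g => hπev g) := fun x => by
    obtain ⟨g, hg⟩ := h.surj x.1 x.2
    exact ⟨g, Subtype.ext hg⟩
  rw [htop, Subgroup.card_top] at hA_le
  have hbij := (Nat.bijective_iff_surjective_and_card _).mpr ⟨hsur, le_antisymm hA_le (Nat.card_le_card_of_surjective _ hsur)⟩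
  exact h.ne_one (hbij.1 (Subtype.ext (show π z = π 1 by rw [hz1, map_one])))

/-- Two double transpositions forming a four-group lift to anticommuting elements. -/
theorem IsCover.anticommute (h : IsCover π z) {x y s t x' y' s' t' x'' y'' s'' t'' : Fin n}
    (hd : [x, y, s, t].Nodup) (hd' : [x', y', s', t'].Nodup) (hd'' : [x'', y'', s'', t''].Nodup) {D C : G}
    (hD : π D = swap x y * swap s t) (hC : π C = swap x' y' * swap s' t')
    (hDC : π D * π C = swap x'' y'' * swap s'' t'') : D * C = C * D * z := by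
  have h1 := h.sq_double hd hD
  have h2 := h.sq_double hd' hC
  have h3 := h.sq_double hd'' (show π (D * C) = _ by rw [map_mul, hDC])
  have e : C * D = D⁻¹ * (D * C * (D * C)) * C⁻¹ := by group
  rw [e, h3, show D⁻¹ = D * z by rw [← inv_eq_of_mul_eq_one_right (show D * (D * z) = 1 by rw [← mul_assoc, h1, h.sq])],
    show C⁻¹ = C * z by rw [← inv_eq_of_mul_eq_one_right (show C * (C * z) = 1 by rw [← mul_assoc, h2, h.sq])]]
  rw [mul_assoc D z z, h.sq, mul_one]
  simp only [mul_assoc]
  rw [h.sq, mul_one]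

theorem mem_closure_threeCycles {r : Perm (Fin n)} (hr : Perm.sign r = 1) :
    r ∈ Subgroup.closure {w : Perm (Fin n) | w.IsThreeCycle ∧ w.support ⊆ r.support} := by
  classical
  let p : Fin n → Prop := fun i => r i ≠ i
  let r' : Perm (Subtype p) := r.subtypePerm fun i => (not_congr r.injective.eq_iff)
  have hsub : ofSubtype r' = r := ofSubtype_subtypePerm _ fun i hi => hi
  have hr' : r' ∈ alternatingGroup (Subtype p) := by
    rw [Equiv.Perm.mem_alternatingGroup, ← sign_ofSubtype r', hsub, hr]
  rw [← closure_three_cycles_eq_alternating] at hr'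
  rw [← hsub]
  have := Subgroup.mem_map_of_mem (ofSubtype (p := p)) hr'
  rw [MonoidHom.map_closure] at this
  refine Subgroup.closure_mono ?_ this
  rintro _ ⟨w, hw, rfl⟩
  refine ⟨?_, fun i hi => ?_⟩
  · rw [← card_support_eq_three_iff, support_ofSubtype, Finset.card_map, card_support_eq_three_iff]
    simpa using hw
  · rw [hsub]
    rw [support_ofSubtype, Finset.mem_map] at hi
    obtain ⟨j, -, rfl⟩ := hi
    exact mem_support.mpr j.2

/-- Lifts of even permutations with disjoint supports commute. -/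
theorem IsCover.disjoint_commute (h : IsCover π z) {C R : G} (hd : Perm.Disjoint (π C) (π R))
    (hR : Perm.sign (π R) = 1) : Commute C R := by
  suffices key : ∀ r ∈ Subgroup.closure {w : Perm (Fin n) | w.IsThreeCycle ∧ w.support ⊆ (π R).support},
      ∀ R', π R' = r → Commute C R' from key _ (mem_closure_threeCycles hR) R rfl
  intro r hr
  induction hr using Subgroup.closure_induction with
  | mem w hw =>
    intro R' hR'
    have hc : Commute (π C) (π R') := by
      refine Perm.Disjoint.commute ?_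
      rw [hR', disjoint_iff_disjoint_support]
      exact (disjoint_iff_disjoint_support.mp hd).mono_right hw.2
    have h3 : π (R' ^ 3) = 1 := by rw [map_pow, hR', ← hw.1.orderOf, pow_orderOf_eq_one]
    have h3c : Commute C (R' ^ 3) := by
      rcases (h.ker _).mp h3 with e | e <;> rw [e]
      · exact Commute.one_right C
      · exact (h.central C).symm
    rcases h.fibre (show π R' = π (C * R' * C⁻¹) by rw [map_mul, map_mul, map_inv, hc.eq, mul_inv_cancel_right]) with e | e
    · exact mul_inv_eq_iff_eq_mul.mp e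
    · exfalso
      have e' : C * R' ^ 3 * C⁻¹ = R' ^ 3 * z := by
        rw [← conj_pow, e, Commute.mul_pow (h.central _).symm, pow_succ z 2, pow_two, h.sq, one_mul]
      rw [h3c.eq, mul_inv_cancel_right] at e'
      exact h.ne_one (mul_eq_left.mp e'.symm)
  | one =>
    intro R' hR'
    rcases (h.ker _).mp hR' with e | e <;> rw [e]
    · exact Commute.one_right C
    · exact (h.central C).symm
  | mul a b ha hb iha ihb =>
    intro R' hR'
    obtain ⟨A, hA⟩ : ∃ A, π A = a := h.surj a (by
      refine Subgroup.closure_induction (p := fun a _ => Perm.sign a = 1) (fun w hw => hw.1.sign) (map_one _)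
        (fun a b _ _ ha hb => by rw [map_mul, ha, hb, one_mul]) (fun a _ ha => by rw [map_inv, ha, inv_one]) ha)
    have := (iha A hA).mul_right (ihb (A⁻¹ * R') (by rw [map_mul, map_inv, hA, hR', inv_mul_cancel_left]))
    rwa [mul_inv_cancel_left] at this
  | inv a _ iha =>
    intro R' hR'
    exact Commute.inv_right_iff.mp (iha R'⁻¹ (by rw [map_inv, hR', inv_inv]))

end Cfsg.Agent.Small.AltComm
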