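import Cfsg.Agent.Lib.Small.AltCoverComm.Cover
import Cfsg.Agent.Lib.Small.AltCoverComm.Cases

/-!
# Every element of the double cover of `A_n` is a commutator
-/

set_option autoImplicit false
set_option linter.unusedSectionVars false
set_option maxHeartbeats 800000

namespace Cfsg.Agent.Small.AltComm

open Equiv Equiv.Perm

variable {G : Type*} [Group G] [Finite G] {n : ℕ} {π : G →* Perm (Fin n)} {z : G}

theorem four_product : (swap (0 : Fin 4) 1 * swap 2 3) * (swap 0 2 * swap 1 3) = swap 0 3 * swap 1 2 := by decide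

theorem six_product : (swap (0 : Fin 6) 1 * swap 2 3) * (swap 0 1 * swap 4 5) = swap 2 3 * swap 4 5 := by decide

/-- A lift with a partner. -/
theorem IsCover.partner (h : IsCover π z) {A : G} (hA : Perm.sign (π A) = 1)
    (hp : TwoSwaps (π A) Finset.univ ∨ SwapFix (π A) Finset.univ) :
    ∃ C : G, A * C = C * A * z := by
  -- a factor acting as a double transposition
  have core : ∀ {x y s t x' y' s' t' x'' y'' s'' t'' : Fin n}, [x, y, s, t].Nodup → [x', y', s', t'].Nodup →
      [x'', y'', s'', t''].Nodup →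
      (swap x y * swap s t) * (swap x' y' * swap s' t') = swap x'' y'' * swap s'' t'' →
      (∀ i, (swap x' y' * swap s' t') i ≠ i → (swap x y * swap s t * π A) i = i) →
      ∃ C : G, A * C = C * A * z := by
    intro x y s t x' y' s' t' x'' y'' s'' t'' hd hd' hd'' e hfix
    have sgn : ∀ {x y s t : Fin n}, [x, y, s, t].Nodup → Perm.sign (swap x y * swap s t) = 1 := by
      intro x y s t hd
      simp only [List.nodup_cons, List.mem_cons, List.not_mem_nil, or_false, not_or, List.nodup_nil, and_true] at hd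
      rw [map_mul, sign_swap hd.1.1, sign_swap hd.2.2.1]; decide
    obtain ⟨D, hD⟩ := h.surj _ (sgn hd)
    obtain ⟨C, hC⟩ := h.surj _ (sgn hd')
    have hDC := h.anticommute hd hd' hd'' hD hC (by rw [hD, hC, e])
    have hR : π (D * A) = swap x y * swap s t * π A := by rw [map_mul, hD]
    have hdis : Perm.Disjoint (π C) (π (D * A)) := fun i => by
      rw [hR, hC]
      by_contra! hne
      exact hne.2 (hfix i hne.1)
    have hCR := h.disjoint_commute hdis (by rw [hR, map_mul, sgn hd, hA, one_mul])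
    refine ⟨C, ?_⟩
    have key : D * (A * C) = D * (C * A * z) := by
      calc D * (A * C) = (D * A) * C := (mul_assoc _ _ _).symm
        _ = C * (D * A) := hCR.eq.symm
        _ = (C * D * z) * z * A := by rw [mul_assoc (C * D) z z, h.sq, mul_one, mul_assoc]
        _ = D * C * z * A := by rw [hDC]
        _ = D * (C * A * z) := by simp only [mul_assoc]; rw [h.central A]
    exact mul_left_cancel key
  rcases hp with ⟨x, y, s, t, hn, e1, e2, e3, e4, -⟩ | ⟨x, y, u, v, hn, e1, e2, e3, e4, -⟩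
  · simp only [List.nodup_cons, List.mem_cons, List.not_mem_nil, or_false, not_or, List.nodup_nil, and_true] at hn
    obtain ⟨⟨h1, h2, h3⟩, ⟨h4, h5⟩, h6, -⟩ := hn
    refine core (x := x) (y := y) (s := s) (t := t) (x' := x) (y' := s) (s' := y) (t' := t) (x'' := x) (y'' := t)
      (s'' := y) (t'' := s) ?_ ?_ ?_ ?_ ?_
    any_goals simp [h1, h2, h3, h4, h5, h6, Ne.symm h4, Ne.symm h6, Ne.symm h5]; done
    · have n4 : [x, y, s, t].Nodup := by simp [h1, h2, h3, h4, h5, h6]
      have ev : embList _ n4 0 = x ∧ embList _ n4 1 = y ∧ embList _ n4 2 = s ∧ embList _ n4 3 = t :=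
        ⟨rfl, rfl, rfl, rfl⟩
      have eq := congrArg (viaEmbeddingHom (embList _ n4)) four_product
      simp only [map_mul, viaEmbedding_swap, ev] at eq
      exact eq
    · intro i hi
      have : i = x ∨ i = y ∨ i = s ∨ i = t := by
        by_contra! hne
        exact hi (by rw [Perm.mul_apply, swap_apply_of_ne_of_ne hne.2.1 hne.2.2.2,
          swap_apply_of_ne_of_ne hne.1 hne.2.2.1])
      rcases this with rfl | rfl | rfl | rfl <;>
        simp [Perm.mul_apply, e1, e2, e3, e4, swap_apply_def, h1, h2, h3, h4, h5, h6, Ne.symm h1, Ne.symm h2,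
          Ne.symm h3, Ne.symm h4, Ne.symm h5, Ne.symm h6]
  · simp only [List.nodup_cons, List.mem_cons, List.not_mem_nil, or_false, not_or, List.nodup_nil, and_true] at hn
    obtain ⟨⟨h1, h2, h3⟩, ⟨h4, h5⟩, h6, -⟩ := hn
    -- two further points
    obtain ⟨w, hwx, hwy, hw⟩ : ∃ w, w ≠ x ∧ w ≠ y ∧ π A w ≠ w := by
      by_contra! hne
      have : π A = swap x y := Perm.ext fun i => by
        rcases eq_or_ne i x with rfl | hix
        · rw [e1, swap_apply_left]
        rcases eq_or_ne i y with rfl | hiy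
        · rw [e2, swap_apply_right]
        rw [swap_apply_of_ne_of_ne hix hiy, hne i hix hiy]
      rw [this, sign_swap h1] at hA
      exact absurd hA (by decide)
    obtain ⟨s, hs, hs'⟩ : ∃ s, s = w ∧ π A w = π A s := ⟨w, rfl, rfl⟩
    obtain ⟨t, ht⟩ : ∃ t, t = π A w := ⟨_, rfl⟩
    have a1 : s ≠ x := hs ▸ hwx
    have a2 : s ≠ y := hs ▸ hwy
    have a3 : s ≠ u := fun e => hw (by rw [← hs, e, e3])
    have a4 : s ≠ v := fun e => hw (by rw [← hs, e, e4])
    have b1 : t ≠ x := fun e => hwy ((π A).injective (by rw [← ht, e, e2]))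
    have b2 : t ≠ y := fun e => hwx ((π A).injective (by rw [← ht, e, e1]))
    have b3 : t ≠ u := fun e => hw (by rw [← ht, (π A).injective (show π A w = π A u by rw [← ht, e, e3]), e])
    have b4 : t ≠ v := fun e => hw (by rw [← ht, (π A).injective (show π A w = π A v by rw [← ht, e, e4]), e])
    have b5 : s ≠ t := fun e => hw (by rw [← ht, ← e, hs])
    refine core (x := x) (y := y) (s := s) (t := t) (x' := x) (y' := y) (s' := u) (t' := v) (x'' := s) (y'' := t)
      (s'' := u) (t'' := v) ?_ ?_ ?_ ?_ ?_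
    any_goals simp [h1, h2, h3, h4, h5, h6, Ne.symm a1, Ne.symm a2, Ne.symm b1, Ne.symm b2, a3, a4, b3, b4, b5]; done
    · have n6 : [x, y, s, t, u, v].Nodup := by
        simp [h1, h2, h3, h4, h5, h6, Ne.symm a1, Ne.symm a2, Ne.symm b1, Ne.symm b2, a3, a4, b3, b4, b5]
      have ev : embList _ n6 0 = x ∧ embList _ n6 1 = y ∧ embList _ n6 2 = s ∧ embList _ n6 3 = t ∧
          embList _ n6 4 = u ∧ embList _ n6 5 = v := ⟨rfl, rfl, rfl, rfl, rfl, rfl⟩
      have eq := congrArg (viaEmbeddingHom (embList _ n6)) six_product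
      simp only [map_mul, viaEmbedding_swap, ev] at eq
      exact eq
    · intro i hi
      have : i = x ∨ i = y ∨ i = u ∨ i = v := by
        by_contra! hne
        exact hi (by rw [Perm.mul_apply, swap_apply_of_ne_of_ne hne.2.2.1 hne.2.2.2,
          swap_apply_of_ne_of_ne hne.1 hne.2.1])
      rcases this with rfl | rfl | rfl | rfl <;>
        simp [Perm.mul_apply, e1, e2, e3, e4, swap_apply_def, h1, h2, h3, h4, h5, h6, Ne.symm h1, Ne.symm h2,
          Ne.symm h3, Ne.symm h4, Ne.symm h5, Ne.symm h6, Ne.symm a1, Ne.symm a2, Ne.symm a3, Ne.symm a4,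
          Ne.symm b1, Ne.symm b2, Ne.symm b3, Ne.symm b4]

theorem exists_cover {G : Type*} [Group G] [Finite G] (hperf : commutator G = ⊤) {n : ℕ} (hn : 5 ≤ n)
    (hZ : Nat.card (Subgroup.center G) = 2) (e : G ⧸ Subgroup.center G ≃* alternatingGroup (Fin n)) :
    ∃ (π : G →* Perm (Fin n)) (z : G), IsCover π z := by
  let π : G →* Perm (Fin n) :=
    ((alternatingGroup (Fin n)).subtype.comp e.toMonoidHom).comp (QuotientGroup.mk' (Subgroup.center G))
  have hker : ∀ g, π g = 1 ↔ g ∈ Subgroup.center G := fun g => by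
    simp only [π, MonoidHom.comp_apply, MulEquiv.coe_toMonoidHom]
    rw [Subgroup.coe_subtype, OneMemClass.coe_eq_one, map_eq_one_iff e e.injective,
      QuotientGroup.mk'_apply, QuotientGroup.eq_one_iff]
  obtain ⟨a, b, hab, huniv⟩ := Nat.card_eq_two_iff.mp hZ
  obtain ⟨z, hz, hz1⟩ : ∃ z : Subgroup.center G, (z : Subgroup.center G) = z ∧ z ≠ 1 := by
    by_cases ha : a = 1
    · exact ⟨b, rfl, fun hb => hab (ha.trans hb.symm)⟩
    · exact ⟨a, rfl, ha⟩
  have hall : ∀ g : Subgroup.center G, g = 1 ∨ g = z := fun g => by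
    have m : ∀ w : Subgroup.center G, w = a ∨ w = b := fun w => by simpa using huniv.ge (Set.mem_univ w)
    rcases m g with rfl | rfl <;> rcases m z with e1 | e1 <;> rcases m 1 with e2 | e2
    all_goals first
      | exact Or.inr e1.symm | exact Or.inl e2.symm | exact absurd (e1.trans e2.symm) hz1
  refine ⟨π, z, hn, hperf, fun x hx => ?_, fun h => hz1 (Subtype.ext h), ?_, fun g => ?_, fun g => ?_⟩
  · obtain ⟨g, hg⟩ := QuotientGroup.mk'_surjective _ (e.symm ⟨x, hx⟩)
    exact ⟨g, by simp [π, ← QuotientGroup.mk'_apply, hg]⟩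
  · rcases hall (z * z) with h | h
    · exact congrArg Subtype.val h
    · exact absurd (mul_eq_left.mp h) hz1
  · exact (Subgroup.mem_center_iff.mp z.2 g).symm
  · rw [hker]
    refine ⟨fun h => (hall ⟨g, h⟩).imp (congrArg Subtype.val) (congrArg Subtype.val), ?_⟩
    rintro (rfl | rfl)
    exacts [one_mem _, z.2]

/-- Every element of the double cover of `A_n` is a commutator. -/
theorem every_commutator {G : Type*} [Group G] [Finite G] (hperf : commutator G = ⊤) {n : ℕ} (hn : 5 ≤ n)
    (hZ : Nat.card (Subgroup.center G) = 2) (e : G ⧸ Subgroup.center G ≃* alternatingGroup (Fin n)) (g : G) :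
    ∃ a b : G, a * b * a⁻¹ * b⁻¹ = g := by
  obtain ⟨π, z, h⟩ := exists_cover hperf hn hZ e
  have hev : Perm.sign (π g) = 1 := by
    have : commutator G ≤ (Perm.sign.comp π).ker := Abelianization.commutator_subset_ker _
    exact this (hperf ▸ Subgroup.mem_top g)
  -- a pair of lifts whose commutator lies over the element, with a partner for the first
  suffices key : ∃ A B C : G, π (A * B * A⁻¹ * B⁻¹) = π g ∧ A * C = C * A * z by
    obtain ⟨A, B, C, hπ, hC⟩ := key
    rcases h.fibre hπ with rfl | rfl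
    · exact ⟨A, B, rfl⟩
    · refine ⟨A, B * C, ?_⟩
      have e1 : A * C * A⁻¹ * C⁻¹ = z := by
        rw [hC, mul_assoc (C * A), h.central, ← mul_assoc, mul_assoc C A A⁻¹, mul_inv_cancel, mul_one,
          mul_assoc, h.central, mul_inv_cancel_left]
      calc A * (B * C) * A⁻¹ * (B * C)⁻¹ = (A * B * A⁻¹) * (A * C * A⁻¹ * C⁻¹) * B⁻¹ := by group
        _ = A * B * A⁻¹ * B⁻¹ * z := by rw [e1, mul_assoc (A * B * A⁻¹), h.central, ← mul_assoc]
  by_cases h1 : π g = 1
  · have hd : [(⟨0, by omega⟩ : Fin n), ⟨1, by omega⟩, ⟨2, by omega⟩, ⟨3, by omega⟩].Nodup := by simp [Fin.ext_iff]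
    obtain ⟨A, hA⟩ := h.surj (swap (⟨0, by omega⟩ : Fin n) ⟨1, by omega⟩ * swap ⟨2, by omega⟩ ⟨3, by omega⟩) (by
      rw [map_mul, sign_swap (by simp [Fin.ext_iff]), sign_swap (by simp [Fin.ext_iff])]; decide)
    obtain ⟨C, hC⟩ := h.partner (A := A) (by
      rw [hA, map_mul, sign_swap (by simp [Fin.ext_iff]), sign_swap (by simp [Fin.ext_iff])]; decide) (Or.inl
      ⟨⟨0, by omega⟩, ⟨1, by omega⟩, ⟨2, by omega⟩, ⟨3, by omega⟩, hd, by simp [hA, swap_apply_def, Fin.ext_iff],
        by simp [hA, swap_apply_def, Fin.ext_iff], by simp [hA, swap_apply_def, Fin.ext_iff],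
        by simp [hA, swap_apply_def, Fin.ext_iff], by simp, by simp, by simp, by simp⟩)
    exact ⟨A, 1, C, by simp [h1], hC⟩
  obtain ⟨a, a', hσ, hct, hsa, hp⟩ := exists_good (π g) hev h1 (by rwa [Fintype.card_fin])
  obtain ⟨A, hA⟩ := h.surj a hsa
  obtain ⟨C, hC⟩ := h.partner (A := A) (by rw [hA]; exact hsa) (by rw [hA]; exact hp)
  obtain ⟨b, hb⟩ := isConj_iff.mp (isConj_iff_cycleType_eq.mpr (show (a⁻¹).cycleType = a'.cycleType by
    rw [cycleType_inv, hct]))
  -- an odd element commuting with `a`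
  obtain ⟨b', hb', hb'c⟩ : ∃ b' : Perm (Fin n), Perm.sign b' = 1 ∧ b' * a⁻¹ * b'⁻¹ = a' := by
    rcases Int.units_eq_one_or (Perm.sign b) with hs | hs
    · exact ⟨b, hs, hb⟩
    obtain ⟨x, y, hxy, hc⟩ : ∃ x y, x ≠ y ∧ Commute (swap x y) a := by
      rcases hp with ⟨x, y, s, t, hn', e1, e2, -⟩ | ⟨x, y, s, t, hn', e1, e2, -⟩ <;>
      · refine ⟨x, y, ?_, ?_⟩
        · simp only [List.nodup_cons, List.mem_cons, not_or] at hn'; exact hn'.1.1
        · have := Equiv.swap_apply_apply a x y
          rw [e1, e2, Equiv.swap_comm] at this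
          exact (mul_inv_eq_iff_eq_mul.mp this.symm).symm
    refine ⟨b * swap x y, by rw [map_mul, hs, sign_swap hxy]; decide, ?_⟩
    rw [_root_.mul_inv_rev, swap_inv, mul_assoc b, hc.inv_right.eq]
    simp only [mul_assoc]
    rw [← mul_assoc (swap x y) (swap x y), swap_mul_self, one_mul, ← mul_assoc, hb]
  obtain ⟨B, hB⟩ := h.surj b' hb'
  exact ⟨A, B, C, by rw [map_mul, map_mul, map_mul, map_inv, map_inv, hA, hB, hσ, ← hb'c]; simp only [mul_assoc], hC⟩

end Cfsg.Agent.Small.AltComm
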